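import Cfsg.Agent.H854.Ore.J4Cent
import Cfsg.Agent.H752.JM.Twelve_mg_m3
import Cfsg.Agent.H397.ZAut
import Cfsg.Agent.H856.AutM22
import Cfsg.Agent.S0283
import Cfsg.Agent.LieClassical.SmallIso
import Cfsg.Agent.SporadicStructure.PsuMatch
import Cfsg.Agent.H859.Iso
import Cfsg.Agent.H860.MaxL32
import Cfsg.Agent.H865.RhoEleven
import Cfsg.Agent.H859.ClassEleven
import Cfsg.Agent.H277.ClsPsl
import Cfsg.Agent.S5563
import Cfsg.Agent.S5564
import Cfsg.Agent.S5574
import Cfsg.Agent.H866.J4OddEnd_mg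
import Cfsg.Agent.S5566
import Cfsg.Agent.S5567
import Cfsg.Agent.S5568
import Cfsg.Agent.S5570
import Cfsg.Agent.S5572
import Cfsg.Agent.S5573
import Cfsg.Agent.S5575
import Cfsg.Agent.S5577
import Cfsg.Agent.S0242
import Cfsg.Agent.H68.JM.Vec_m3
import Cfsg.Agent.FastGrp
import Cfsg.Agent.Prune
set_option linter.all false

section
prune_inst 0x7ffdfffbbff8f9deffff7e7fffffdffffdffffffffdffbfbfffffbffbfff6b6ffbf5fbafffef58ffbef6f2be32f87bd3fbff9efeefb9dc7fffff5ff47fffffdfffffbfaf79f6bc3e1ffe6ffffbfbffdf7f3fffffffffffffffffffffffffffffffffffffffff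

-- part: H854/JM/Asm
section
prune_inst 0x2000040020400000000000000000002000000002004000000000000008010040000000000a3000100000008040028040060010046010000000008000000000000401004010340c00100000404000000000000000000000000000000000000000000000000
set_option linter.all false
open scoped Cfsg.Agent.FastGrp

-- part: H854/JM/Std
section
/-!
# S5580: the five non-local maximal subgroups of S5581 with their socles and orders (helper854)
-/

set_option autoImplicit false

open Cfsg Subgroup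

namespace Cfsg.Agent.H854.JM

open Cfsg.Agent.OrdDiv Cfsg.Agent.H866 Cfsg.Agent.H866.J4Ord Cfsg.Agent.H866.J4Min
open Cfsg.Agent.H854.JM.NonLocal
open Cfsg.Agent.H860.JM (NL)

/-- the group `Spor.J4` -/
local notation "𝒢" => Cfsg.Spor.J4

/-- a maximal subgroup `M` of order `c` with socle isomorphic to `T` -/
def HasStd (T : Type) [Group T] (c : ℕ) : Prop :=
  ∃ M S : Subgroup 𝒢, NL M S ∧ Nonempty (S ≃* T) ∧ Nat.card M = c

/-- a maximal subgroup is the normalizer of every nontrivial normal subgroup -/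
theorem eq_normalizer {M R : Subgroup 𝒢} (hM : IsCoatom M) (hRM : R ≤ M) (hR : R ≠ ⊥)
    (hn : M ≤ normalizer (R : Set 𝒢)) : M = normalizer (R : Set 𝒢) := by
  have := simple_J
  refine le_antisymm hn ?_
  by_contra hlt
  have h1 : M < normalizer (R : Set 𝒢) := lt_of_le_of_ne hn fun h => hlt (h ▸ le_rfl)
  have h3 : R.Normal := Subgroup.normalizer_eq_top_iff.1 (hM.2 _ h1)
  rcases h3.eq_bot_or_eq_top with h4 | h4
  · exact hR h4
  · exact hM.1 (top_le_iff.1 (h4 ▸ hRM))

/-- the normalizer of a subgroup of order two has order divisible by `2 ^ 11` -/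
theorem dvd_norm_two {R : Subgroup 𝒢} (hR : Nat.card R = 2) : 2 ^ 11 ∣ Nat.card (normalizer (R : Set 𝒢)) := by
  have f2 : Fact (Nat.Prime 2) := ⟨by norm_num⟩
  obtain ⟨x, hx⟩ := exists_prime_orderOf_dvd_card' (G := R) 2 (by rw [hR])
  have hx1 : (x : 𝒢) ≠ 1 := by
    intro h
    rw [← Subgroup.orderOf_coe, h, orderOf_one] at hx
    norm_num at hx
  have hx2 : (x : 𝒢) * x = 1 := by
    rw [← pow_two, ← hx, ← Subgroup.orderOf_coe, pow_orderOf_eq_one]
  have hz : Subgroup.zpowers (x : 𝒢) = R := by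
    refine Subgroup.eq_of_le_of_card_ge (Subgroup.zpowers_le.2 x.2) ?_
    rw [Nat.card_zpowers, Subgroup.orderOf_coe, hx, hR]
  -- a conjugate of `EJ` contains `x`
  obtain ⟨g, hg⟩ : ∃ g : 𝒢, (x : 𝒢) ∈ H860.JM.cj g J4.Invol.EJ := by
    rcases H860.JM.invol hx1 hx2 with h | h
    · obtain ⟨g, hg⟩ := isConj_iff.1 h
      exact ⟨g, H860.JM.mem_cj.2 (by
        rw [← hg]
        have : g⁻¹ * (g * J4.Invol.s * g⁻¹) * g = J4.Invol.s := by group
        rw [this]
        exact H860.JM.s_mem)⟩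
    · obtain ⟨g, hg⟩ := isConj_iff.1 h
      exact ⟨g, H860.JM.mem_cj.2 (by
        rw [← hg]
        have : g⁻¹ * (g * J4.Invol.d * g⁻¹) * g = J4.Invol.d := by group
        rw [this]
        exact H860.JM.d_mem)⟩
  have hE : H860.JM.El (H860.JM.cj g J4.Invol.EJ) := H860.JM.f3.el _ ⟨g, rfl⟩
  have h1 : H860.JM.cj g J4.Invol.EJ ≤ normalizer (R : Set 𝒢) := by
    refine le_trans ?_ (Subgroup.centralizer_le_normalizer (R : Set 𝒢))
    intro y hy
    rw [mem_centralizer_iff]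
    intro r hr
    rw [← hz] at hr
    obtain ⟨n, rfl⟩ := Subgroup.mem_zpowers_iff.1 hr
    exact ((show Commute y (x : 𝒢) from hE.comm y hy _ hg).zpow_right n).eq.symm
  have h2 := Subgroup.card_dvd_of_le h1
  rwa [H860.JM.card_cj, H860.JM.card_EJ] at h2

/-- the normalizer of a subgroup of order five -/
theorem card_norm_five {R : Subgroup 𝒢} (hR : Nat.card R = 5) : Nat.card (normalizer (R : Set 𝒢)) = 26880 := by
  have := simple_J
  have f5 : Fact (Nat.Prime 5) := ⟨by norm_num⟩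
  obtain ⟨z, hz⟩ := janko
  have hC5 : 5 ∣ Nat.card (centralizer ({z} : Set 𝒢)) := by
    rw [(H821.J4MaxB.facts hz).card_cent]
    norm_num
  obtain ⟨y, hy⟩ := exists_prime_orderOf_dvd_card' (G := centralizer ({z} : Set 𝒢)) 5 hC5
  have hY : Nat.card (Subgroup.zpowers (y : 𝒢)) = 5 := by rw [Nat.card_zpowers, Subgroup.orderOf_coe, hy]
  have hYC : Subgroup.zpowers (y : 𝒢) ≤ centralizer ({z} : Set 𝒢) := Subgroup.zpowers_le.2 y.2
  obtain ⟨-, -, -, h4⟩ := S5572.result noncomm_J z hz _ hY hYC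
  obtain ⟨g, rfl⟩ := conj_of_prime card_J (p := 5) (by norm_num [nJ]) hY hR
  have h5 : normalizer (((Subgroup.zpowers (y : 𝒢)).map (MulAut.conj g).toMonoidHom : Subgroup 𝒢) : Set 𝒢) =
      (normalizer ((Subgroup.zpowers (y : 𝒢) : Subgroup 𝒢) : Set 𝒢)).map (MulAut.conj g).toMonoidHom := by
    rw [Subgroup.map_equiv_normalizer_eq]
  rw [h5, Subgroup.card_map_of_injective (MulAut.conj g).injective, h4]
  norm_num

/-- `NL M K` from a normal nonabelian simple subgroup of index `m` -/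
theorem nl_of {M K : Subgroup 𝒢} (hM : IsCoatom M) (hK : K ≤ M) (hn : M ≤ normalizer (K : Set 𝒢))
    (hs : IsSimpleGroup K) (hna : ¬ IsMulCommutative K) {m c : ℕ} (hm : m = 1 ∨ (m = 2 ∧ ¬ 2 ^ 11 ∣ m * c) ∨
      (m = 5 ∧ m * c ≠ 26880)) (hKc : Nat.card K = c) (hcard : Nat.card M = m * c) : NL M K := by
  have hKb : K ≠ ⊥ := by
    rintro rfl
    exact hna ⟨⟨fun a b => Subsingleton.elim _ _⟩⟩
  have hMK := eq_normalizer hM hK hKb hn
  refine ⟨hM, hK, hn, hs, hna, ?_⟩
  have hCM : centralizer (K : Set 𝒢) ≤ M := by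
    rw [hMK]
    exact Subgroup.centralizer_le_normalizer _
  have hd := card_mul_dvd (A := centralizer (K : Set 𝒢)) (P := K) hCM hK
    (fun a ha b hb => (mem_centralizer_iff.1 ha b hb).symm) (by
      rw [inf_comm]
      exact inf_cent fun h => hna ⟨⟨h⟩⟩)
  have hc0 : 0 < c := hKc ▸ Nat.card_pos
  rw [hKc, hcard] at hd
  have hd' := Nat.dvd_of_mul_dvd_mul_right hc0 hd
  have hnC : M ≤ normalizer ((centralizer (K : Set 𝒢) : Subgroup 𝒢) : Set 𝒢) := by
    intro x hx
    have hx1 := hn hx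
    rw [← H860.JM.cj_eq_iff] at hx1 ⊢
    rw [← H860.JM.centralizer_cj, hx1]
  by_contra hC
  have key := eq_normalizer hM hCM hC hnC
  have h1 : Nat.card (centralizer (K : Set 𝒢)) ≠ 1 := fun h => hC (Subgroup.card_eq_one.1 h)
  rcases hm with rfl | ⟨rfl, hm⟩ | ⟨rfl, hm⟩
  · exact h1 (Nat.dvd_one.1 hd')
  · have h2 : Nat.card (centralizer (K : Set 𝒢)) = 2 := ((Nat.dvd_prime Nat.prime_two).1 hd').resolve_left h1
    apply hm
    rw [← hcard, key]
    exact dvd_norm_two h2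
  · have h2 : Nat.card (centralizer (K : Set 𝒢)) = 5 :=
      ((Nat.dvd_prime (by norm_num : Nat.Prime 5)).1 hd').resolve_left h1
    apply hm
    rw [← hcard, key]
    exact card_norm_five h2

/-- from a normal subgroup of the group `M` -/
theorem std_of {T : Type} [Group T] (hT : IsSimpleGroup T) {M : Subgroup 𝒢} (hM : IsCoatom M) (K : Subgroup M)
    (hKn : K.Normal) {m c : ℕ} (hi : K.index = m) (e : K ≃* T) (hTc : Nat.card T = c) (hcp : ¬ c.Prime)
    (hm : m = 1 ∨ (m = 2 ∧ ¬ 2 ^ 11 ∣ m * c) ∨ (m = 5 ∧ m * c ≠ 26880)) : HasStd T (m * c) := by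
  let K' : Subgroup 𝒢 := K.map M.subtype
  have e' : K ≃* K' := K.equivMapOfInjective _ M.subtype_injective
  have hKc : Nat.card K = c := by rw [Nat.card_congr e.toEquiv, hTc]
  have hs : IsSimpleGroup K' := (e'.symm.trans e).isSimpleGroup_congr.2 hT
  have hKc' : Nat.card K' = c := by rw [← Nat.card_congr e'.toEquiv, hKc]
  have hna : ¬ IsMulCommutative K' :=
    Classification.SimpleIndex.not_comm_of_not_prime (G := K') (by rw [hKc']; exact hcp)
  have hMc : Nat.card M = m * c := by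
    rw [← K.card_mul_index, hi, hKc, mul_comm]
  refine ⟨M, K', nl_of hM (Subgroup.map_subtype_le _) ?_ hs hna hm hKc' hMc, ⟨e'.symm.trans e⟩, hMc⟩
  intro x hx
  rw [mem_normalizer_iff]
  intro y
  constructor
  · rintro ⟨r, hr, rfl⟩
    exact ⟨⟨x, hx⟩ * r * ⟨x, hx⟩⁻¹, hKn.conj_mem r hr _, rfl⟩
  · rintro ⟨r, hr, he⟩
    refine ⟨⟨x, hx⟩⁻¹ * r * ⟨x, hx⟩, ?_, ?_⟩
    · have := hKn.conj_mem r hr (⟨x, hx⟩⁻¹ : M)
      rwa [inv_inv] at this
    · have h1 : (r : 𝒢) = x * y * x⁻¹ := he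
      change x⁻¹ * (r : 𝒢) * x = y
      rw [h1]
      group

theorem card_psu {F : Type} [Field F] [Fintype F] {q : ℕ} (hF : Fintype.card F = q ^ 2) (hq : q ≠ 2)
    {K : Subgroup 𝒢} (e : K ≃* PSU 3 F q) : Nat.card (PSU 3 F q) = ordN (.psu 3 q) :=
  (psu_mem valid_lJ hF le_rfl (fun h => hq h.2) (by
    rw [← Nat.card_congr e.toEquiv, ← card_J]
    exact Subgroup.card_subgroup_dvd_card K)).2

theorem card_psl {F : Type} [Field F] [Fintype F] (h4 : 4 ≤ Fintype.card F) {K : Subgroup 𝒢}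
    (e : K ≃* Matrix.ProjectiveSpecialLinearGroup (Fin 2) F) :
    Nat.card (Matrix.ProjectiveSpecialLinearGroup (Fin 2) F) = ordN (.psl 2 (Fintype.card F)) :=
  (psl_mem valid_lJ le_rfl (fun _ => h4) (by
    rw [← Nat.card_congr e.toEquiv, ← card_J]
    exact Subgroup.card_subgroup_dvd_card K)).2

/-- the statement of S5581 for the group `Spor.J4` -/
def St81 : Prop :=
    (∃ M : Subgroup 𝒢, IsCoatom M ∧ ∃ (K : Subgroup ↥M) (F : Type) (_ : Field F) (_ : Fintype F),
        Fintype.card F = 121 ∧ K.Normal ∧ K.index = 2 ∧ Nonempty (↥K ≃* Cfsg.PSU 3 F 11)) ∧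
    (∃ M : Subgroup 𝒢, IsCoatom M ∧ Nonempty (↥M ≃* MulAut ↥Cfsg.Spor.M22)) ∧
    (∃ M : Subgroup 𝒢, IsCoatom M ∧ ∃ (K : Subgroup ↥M) (F : Type) (_ : Field F) (_ : Fintype F),
        Fintype.card F = 32 ∧ K.Normal ∧ K.index = 5 ∧ Nonempty (↥K ≃* Matrix.ProjectiveSpecialLinearGroup (Fin 2) F)) ∧
    (∃ M : Subgroup 𝒢, IsCoatom M ∧ Nonempty (↥M ≃* GL (Fin 2) (ZMod 23) ⧸ Subgroup.center (GL (Fin 2) (ZMod 23)))) ∧
    (∃ M : Subgroup 𝒢, IsCoatom M ∧ ∃ (F : Type) (_ : Field F) (_ : Fintype F), Fintype.card F = 9 ∧ Nonempty (↥M ≃* Cfsg.PSU 3 F 3))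

theorem HasStd.congr {T T' : Type} [Group T] [Group T'] (e : T ≃* T') {c : ℕ} (h : HasStd T c) : HasStd T' c := by
  obtain ⟨M, S, h1, ⟨f⟩, h2⟩ := h
  exact ⟨M, S, h1, ⟨f.trans e⟩, h2⟩

theorem std_u311 (H : St81) {F : Type} [Field F] [Fintype F] (hF : Fintype.card F = 121) :
    HasStd (PSU 3 F 11) 141831360 := by
  obtain ⟨⟨M, hM, K, F', i, j, hF', hKn, hKi, ⟨e⟩⟩, -⟩ := H
  have hF'' : Fintype.card F' = 11 ^ 2 := by rw [hF']; norm_num
  have e' : K.map M.subtype ≃* PSU 3 F' 11 := (K.equivMapOfInjective _ M.subtype_injective).symm.trans e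
  have h1 : Nat.card (PSU 3 F' 11) = 70915680 := (card_psu hF'' (by norm_num) e').trans (by decide +kernel)
  have h2 := std_of (S0283.result hF'' 3 le_rfl (by norm_num)) hM K hKn hKi e h1 (by norm_num) (by
    right; left; exact ⟨rfl, by norm_num⟩)
  refine HasStd.congr ?_ h2
  exact SporadicStructure.PsuMatch.psuCongr (FiniteField.ringEquivOfCardEq (K := F') (K' := F) (hF'.trans hF.symm)) 3 11

theorem std_u33 (H : St81) {F : Type} [Field F] [Fintype F] (hF : Fintype.card F = 9) :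
    HasStd (PSU 3 F 3) 6048 := by
  obtain ⟨-, -, -, -, ⟨M, hM, F', i, j, hF', ⟨e⟩⟩⟩ := H
  have hF'' : Fintype.card F' = 3 ^ 2 := by rw [hF']; norm_num
  have h1 : Nat.card (PSU 3 F' 3) = 6048 := (card_psu hF'' (by norm_num) e).trans (by decide +kernel)
  have e' : (⊤ : Subgroup M) ≃* PSU 3 F' 3 := Subgroup.topEquiv.trans e
  have h2 := std_of (m := 1) (S0283.result hF'' 3 le_rfl (by norm_num)) hM ⊤ inferInstance Subgroup.index_top e' h1
    (by norm_num) (by left; rfl)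
  refine HasStd.congr ?_ h2
  exact SporadicStructure.PsuMatch.psuCongr (FiniteField.ringEquivOfCardEq (K := F') (K' := F) (hF'.trans hF.symm)) 3 3

theorem std_l32 (H : St81) {F : Type} [Field F] [Fintype F] (hF : Fintype.card F = 32) :
    HasStd (Matrix.ProjectiveSpecialLinearGroup (Fin 2) F) 163680 := by
  obtain ⟨-, -, ⟨M, hM, K, F', i, j, hF', hKn, hKi, ⟨e⟩⟩, -⟩ := H
  have e' : K.map M.subtype ≃* Matrix.ProjectiveSpecialLinearGroup (Fin 2) F' :=
    (K.equivMapOfInjective _ M.subtype_injective).symm.trans e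
  have h1 : Nat.card (Matrix.ProjectiveSpecialLinearGroup (Fin 2) F') = 32736 :=
    (card_psl (by rw [hF']; norm_num) e').trans (by rw [hF']; decide +kernel)
  have h2 := std_of (Matrix.ProjectiveSpecialLinearGroup.rank_two_simple (by
    rw [Nat.card_eq_fintype_card, hF']; norm_num)) hM K hKn hKi e h1 (by norm_num) (by
    right; right; exact ⟨rfl, by norm_num⟩)
  refine HasStd.congr ?_ h2
  exact LieClassical.SmallIso.pslCongr (Fin 2) (FiniteField.ringEquivOfCardEq (K := F') (K' := F) (hF'.trans hF.symm))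

theorem std_l23 (H : St81) {F : Type} [Field F] [Fintype F] (hF : Fintype.card F = 23) :
    HasStd (Matrix.ProjectiveSpecialLinearGroup (Fin 2) F) 12144 := by
  have f23 : Fact (Nat.Prime 23) := ⟨by norm_num⟩
  obtain ⟨-, -, -, ⟨M, hM, ⟨e⟩⟩, -⟩ := H
  have hMc : Nat.card M = 12144 := by
    rw [Nat.card_congr e.toEquiv, Cfsg.Agent.H397.ZAut.card_pgl, ZMod.card]
    norm_num
  let e2 : M ≃* Matrix.ProjGenLinGroup (Fin 2) (ZMod 23) := e
  let t : Matrix.ProjectiveSpecialLinearGroup (Fin 2) (ZMod 23) →* Matrix.ProjGenLinGroup (Fin 2) (ZMod 23) :=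
    Matrix.ProjectiveSpecialLinearGroup.toPGL
  have ht : Function.Injective t := Matrix.ProjectiveSpecialLinearGroup.toPGL_injective
  let f : Matrix.ProjectiveSpecialLinearGroup (Fin 2) (ZMod 23) →* M := (e2.symm : _ →* M).comp t
  have hf : Function.Injective f := e2.symm.injective.comp ht
  let K : Subgroup M := f.range
  have eK : K ≃* Matrix.ProjectiveSpecialLinearGroup (Fin 2) (ZMod 23) := (MonoidHom.ofInjective hf).symm
  have e' : K.map M.subtype ≃* Matrix.ProjectiveSpecialLinearGroup (Fin 2) (ZMod 23) :=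
    (K.equivMapOfInjective _ M.subtype_injective).symm.trans eK
  have h1 : Nat.card (Matrix.ProjectiveSpecialLinearGroup (Fin 2) (ZMod 23)) = 6072 :=
    (card_psl (by rw [ZMod.card]; norm_num) e').trans (by rw [ZMod.card]; decide +kernel)
  have hKi : K.index = 2 := by
    have h2 := K.card_mul_index
    rw [Nat.card_congr eK.toEquiv, h1, hMc] at h2
    omega
  have h2 := std_of (Matrix.ProjectiveSpecialLinearGroup.rank_two_simple (by
    rw [Nat.card_eq_fintype_card, ZMod.card]; norm_num)) hM K (Subgroup.normal_of_index_eq_two hKi) hKi eK h1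
    (by norm_num) (by right; left; exact ⟨rfl, by norm_num⟩)
  refine HasStd.congr ?_ h2
  exact LieClassical.SmallIso.pslCongr (Fin 2) (FiniteField.ringEquivOfCardEq (K := ZMod 23) (K' := F) (by rw [ZMod.card, hF]))

theorem std_m22 (H : St81) : HasStd Spor.M22 887040 := by
  obtain ⟨-, ⟨M, hM, ⟨e⟩⟩, -⟩ := H
  have hs : IsSimpleGroup Spor.M22 := SporadicA.MathieuRecog.simple_M22
  have hc : Nat.card Spor.M22 = 443520 := SporadicA.MathieuRecog.card_M22
  have hMc : Nat.card M = 887040 := by rw [Nat.card_congr e.toEquiv, H856.AutM22.card_aut]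
  let t : Spor.M22 →* MulAut Spor.M22 := MulAut.conj
  have ht : Function.Injective t := by
    rw [← MonoidHom.ker_eq_bot_iff]
    rcases IsSimpleGroup.eq_bot_or_eq_top_of_normal t.ker inferInstance with h | h
    · exact h
    · exfalso
      have h1 : ¬ IsMulCommutative Spor.M22 :=
        Classification.SimpleIndex.not_comm_of_not_prime (G := Spor.M22) (by rw [hc]; norm_num)
      apply h1
      refine ⟨⟨fun a b => ?_⟩⟩
      have h2 : a ∈ t.ker := h ▸ mem_top a
      have h3 := DFunLike.congr_fun (MonoidHom.mem_ker.1 h2) b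
      have h4 : a * b * a⁻¹ = b := h3
      exact mul_inv_eq_iff_eq_mul.1 h4
  let f : Spor.M22 →* M := (e.symm : _ →* M).comp t
  have hf : Function.Injective f := e.symm.injective.comp ht
  let K : Subgroup M := f.range
  have eK : K ≃* Spor.M22 := (MonoidHom.ofInjective hf).symm
  have hKi : K.index = 2 := by
    have h2 := K.card_mul_index
    rw [Nat.card_congr eK.toEquiv, hc, hMc] at h2
    omega
  exact std_of hs hM K (Subgroup.normal_of_index_eq_two hKi) hKi eK hc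
    (by norm_num) (by right; left; exact ⟨rfl, by norm_num⟩)

end Cfsg.Agent.H854.JM
end

-- part: H854/JM/Five
section
/-!
# S5580: the non-local maximal subgroups, assembly (helper854)

`Rows` : the statements of the rows of Part III; `five` : a maximal subgroup without normal `p`-subgroups is conjugate to one
of five.
-/

set_option autoImplicit false

open Cfsg Subgroup

namespace Cfsg.Agent.H854.JM

open Cfsg.Agent.OrdDiv Cfsg.Agent.H866 Cfsg.Agent.H866.J4Ord Cfsg.Agent.H866.J4Min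
open Cfsg.Agent.H854.JM.NonLocal
open Cfsg.Agent.H860.JM (NL Excl OneCl cj)

/-- the group `Spor.J4` -/
local notation "𝒢" => Cfsg.Spor.J4

/-- the rows of Part III -/
structure Rows : Prop where
  a5 : Excl ↥(alternatingGroup (Fin 5))
  a6 : Excl ↥(alternatingGroup (Fin 6))
  a7 : Excl ↥(alternatingGroup (Fin 7))
  a8 : Excl ↥(alternatingGroup (Fin 8))
  l27 : ∀ {F : Type} [Field F] [Fintype F], Fintype.card F = 7 → Excl (Matrix.ProjectiveSpecialLinearGroup (Fin 2) F)
  l211 : ∀ {F : Type} [Field F] [Fintype F], Fintype.card F = 11 → Excl (Matrix.ProjectiveSpecialLinearGroup (Fin 2) F)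
  l34 : ∀ {F : Type} [Field F] [Fintype F], Fintype.card F = 4 → Excl (Matrix.ProjectiveSpecialLinearGroup (Fin 3) F)
  l52 : ∀ {F : Type} [Field F] [Fintype F], Fintype.card F = 2 → Excl (Matrix.ProjectiveSpecialLinearGroup (Fin 5) F)
  m11 : Excl ↥Spor.M11
  m12 : Excl ↥Spor.M12
  m23 : Excl ↥Spor.M23
  m24 : Excl ↥Cfsg.M24
  m22 : OneCl ↥Spor.M22
  l223 : ∀ {F : Type} [Field F] [Fintype F], Fintype.card F = 23 → OneCl (Matrix.ProjectiveSpecialLinearGroup (Fin 2) F)
  l232 : ∀ {F : Type} [Field F] [Fintype F], Fintype.card F = 32 → OneCl (Matrix.ProjectiveSpecialLinearGroup (Fin 2) F)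
  u33 : ∀ {F : Type} [Field F] [Fintype F], Fintype.card F = 9 → OneCl (PSU 3 F 3)
  u311 : ∀ {F : Type} [Field F] [Fintype F], Fintype.card F = 121 → OneCl (PSU 3 F 11)

/-- `M` has no nontrivial normal `p`-subgroup -/
def NonLoc (M : Subgroup 𝒢) : Prop :=
  ∀ p : ℕ, p.Prime → ∀ R : Subgroup 𝒢, R ≤ M → IsPGroup p R → M ≤ normalizer (R : Set 𝒢) → R = ⊥

/-- the orders of the five -/
def c5 : Fin 5 → ℕ := ![141831360, 887040, 163680, 12144, 6048]

/-- **the non-local maximal subgroups are in five classes** -/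
theorem five (R : Rows) (T : OrderTable.{0}) (hS : Known.{0}) (H : St81) :
    ∃ f : Fin 5 → Subgroup 𝒢, (∀ i, IsCoatom (f i)) ∧ (∀ i, Nat.card (f i) = c5 i) ∧
      ∀ M : Subgroup 𝒢, IsCoatom M → NonLoc M → ∃ i g, M = cj g (f i) := by
  obtain ⟨-, -, -, F1, i1, j1, hF1, -⟩ := H.1
  obtain ⟨-, -, -, F3, i3, j3, hF3, -⟩ := H.2.2.1
  obtain ⟨-, -, F5, i5, j5, hF5, -⟩ := H.2.2.2.2
  have f23 : Fact (Nat.Prime 23) := ⟨by norm_num⟩
  obtain ⟨M1, S1, n1, e1, k1⟩ := std_u311 H hF1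
  obtain ⟨M2, S2, n2, e2, k2⟩ := std_m22 H
  obtain ⟨M3, S3, n3, e3, k3⟩ := std_l32 H hF3
  obtain ⟨M4, S4, n4, e4, k4⟩ := std_l23 H (ZMod.card 23)
  obtain ⟨M5, S5, n5, e5, k5⟩ := std_u33 H hF5
  refine ⟨![M1, M2, M3, M4, M5], ?_, ?_, ?_⟩
  · intro i
    fin_cases i
    · exact n1.coatom
    · exact n2.coatom
    · exact n3.coatom
    · exact n4.coatom
    · exact n5.coatom
  · intro i
    fin_cases i
    · exact k1
    · exact k2
    · exact k3
    · exact k4
    · exact k5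
  · intro M hM hl
    obtain ⟨S, hn, hL⟩ := nl_list' T hS hM hl
    cases hL with
    | alt n hn' e =>
      rcases hn' with rfl | rfl | rfl | rfl
      · exact (R.a5 M S hn e).elim
      · exact (R.a6 M S hn e).elim
      · exact (R.a7 M S hn e).elim
      · exact (R.a8 M S hn e).elim
    | psl n q h F i j hq e =>
      simp only [List.mem_cons, Prod.mk.injEq, List.not_mem_nil, or_false] at h
      rcases h with ⟨rfl, rfl⟩ | ⟨rfl, rfl⟩ | ⟨rfl, rfl⟩ | ⟨rfl, rfl⟩ | ⟨rfl, rfl⟩ | ⟨rfl, rfl⟩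
      · exact (R.l27 hq M S hn e).elim
      · exact (R.l211 hq M S hn e).elim
      · refine ⟨3, R.l223 (ZMod.card 23) M4 S4 M S n4 hn e4 ?_⟩
        exact ⟨e.some.trans (LieClassical.SmallIso.pslCongr (Fin 2)
          (FiniteField.ringEquivOfCardEq (K := F) (K' := ZMod 23) (by rw [hq, ZMod.card])))⟩
      · refine ⟨2, R.l232 hF3 M3 S3 M S n3 hn e3 ?_⟩
        exact ⟨e.some.trans (LieClassical.SmallIso.pslCongr (Fin 2)
          (FiniteField.ringEquivOfCardEq (K := F) (K' := F3) (by rw [hq, hF3])))⟩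
      · exact (R.l34 hq M S hn e).elim
      · exact (R.l52 hq M S hn e).elim
    | psu q h F i j hq e =>
      rcases h with rfl | rfl
      · refine ⟨4, R.u33 hF5 M5 S5 M S n5 hn e5 ?_⟩
        exact ⟨e.some.trans (SporadicStructure.PsuMatch.psuCongr
          (FiniteField.ringEquivOfCardEq (K := F) (K' := F5) (by rw [hq, hF5]; norm_num)) 3 3)⟩
      · refine ⟨0, R.u311 hF1 M1 S1 M S n1 hn e1 ?_⟩
        exact ⟨e.some.trans (SporadicStructure.PsuMatch.psuCongr
          (FiniteField.ringEquivOfCardEq (K := F) (K' := F1) (by rw [hq, hF1]; norm_num)) 3 11)⟩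
    | m11 e => exact (R.m11 M S hn e).elim
    | m12 e => exact (R.m12 M S hn e).elim
    | m22 e => exact ⟨1, R.m22 M2 S2 M S n2 hn e2 e⟩
    | m23 e => exact (R.m23 M S hn e).elim
    | m24 e => exact (R.m24 M S hn e).elim

end Cfsg.Agent.H854.JM
end

-- part: H854/JM/Asm
section
/-!
# S5580: the final assembly (helper854)

* `Thirteen G` : the conclusion of S5580 in the form "a family of 13 maximal subgroups of different orders";
* `Thirteen.stmt`, `Thirteen.map` : it implies the statement, and is invariant under isomorphisms;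
* `thirteen` : `Thirteen Spor.J4` from the pieces.
-/

set_option autoImplicit false

open Cfsg Subgroup

namespace Cfsg.Agent.H854.JM

open Cfsg.Agent.OrdDiv Cfsg.Agent.H866 Cfsg.Agent.H866.J4Ord Cfsg.Agent.H866.J4Min
open Cfsg.Agent.H860.JM (NL Excl OneCl cj Good geo)

/-- the group `Spor.J4` -/
local notation "𝒢" => Cfsg.Spor.J4

/-- the conclusion of S5580 -/
def Stmt (G : Type*) [Group G] : Prop :=
  ∃ S : Finset (Subgroup G), S.card = 13 ∧ (∀ M ∈ S, IsCoatom M) ∧
      (∀ M₁ ∈ S, ∀ M₂ ∈ S, ∀ g : G, M₂ = M₁.map (MulAut.conj g).toMonoidHom → M₁ = M₂) ∧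
      ∀ M : Subgroup G, IsCoatom M → ∃ M₀ ∈ S, ∃ g : G, M = M₀.map (MulAut.conj g).toMonoidHom

/-- a family of 13 maximal subgroups of different orders, one in every class -/
def Thirteen (G : Type*) [Group G] : Prop :=
  ∃ f : Fin 13 → Subgroup G, (∀ i, IsCoatom (f i)) ∧ (Function.Injective fun i => Nat.card (f i)) ∧
    ∀ M : Subgroup G, IsCoatom M → ∃ i g, M = cj g (f i)

theorem Thirteen.stmt {G : Type*} [Group G] (h : Thirteen G) : Stmt G := by
  classical
  obtain ⟨f, h1, h2, h3⟩ := h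
  have hf : Function.Injective f := fun i j hij => h2 (congrArg (fun M : Subgroup G => Nat.card M) hij)
  refine ⟨Finset.univ.image f, ?_, ?_, ?_, ?_⟩
  · rw [Finset.card_image_of_injective _ hf, Finset.card_univ, Fintype.card_fin]
  · intro M hM
    obtain ⟨i, -, rfl⟩ := Finset.mem_image.1 hM
    exact h1 i
  · intro M₁ hM₁ M₂ hM₂ g hg
    obtain ⟨i, -, rfl⟩ := Finset.mem_image.1 hM₁
    obtain ⟨j, -, rfl⟩ := Finset.mem_image.1 hM₂
    have h4 : Nat.card (f j) = Nat.card (f i) := by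
      rw [hg, Subgroup.card_map_of_injective (MulAut.conj g).injective]
    rw [h2 h4.symm]
  · intro M hM
    obtain ⟨i, g, h⟩ := h3 M hM
    exact ⟨f i, Finset.mem_image_of_mem f (Finset.mem_univ i), g, h⟩

theorem isCoatom_map {G H : Type*} [Group G] [Group H] (e : G ≃* H) {M : Subgroup G} (hM : IsCoatom M) :
    IsCoatom (M.map e.toMonoidHom) := by
  have h := (OrderIso.isCoatom_iff (MulEquiv.mapSubgroup e) M).2 hM
  exact h

theorem Thirteen.map {G H : Type*} [Group G] [Group H] (e : G ≃* H) (h : Thirteen G) : Thirteen H := by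
  obtain ⟨f, h1, h2, h3⟩ := h
  refine ⟨fun i => (f i).map e.toMonoidHom, fun i => isCoatom_map e (h1 i), ?_, ?_⟩
  · intro i j hij
    apply h2
    simp only at hij
    rw [Subgroup.card_map_of_injective e.injective, Subgroup.card_map_of_injective e.injective] at hij
    exact hij
  · intro M hM
    obtain ⟨i, g, h⟩ := h3 (M.map e.symm.toMonoidHom) (isCoatom_map e.symm hM)
    refine ⟨i, e g, ?_⟩
    have h4 : M = (M.map e.symm.toMonoidHom).map e.toMonoidHom := by
      rw [Subgroup.map_map]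
      convert (Subgroup.map_id M).symm
      ext x
      simp
    rw [h4, h]
    simp only [cj]
    rw [Subgroup.map_map, Subgroup.map_map]
    congr 1
    ext x
    show e (g * x * g⁻¹) = e g * e x * (e g)⁻¹
    rw [map_mul, map_mul, map_inv]

/-- from the group `Spor.J4` to every finite simple group of Janko-four type -/
theorem stmt_of (h : Thirteen 𝒢) {G : Type*} [Group G] [Finite G] [IsSimpleGroup G] (hJ : IsOfJankoFourType G) :
    Stmt G := by
  obtain ⟨e⟩ := Cfsg.Agent.H859.Iso.exists_iso hJ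
  exact (h.map e).stmt

/-- the orders of the eight local maximal subgroups -/
def c8 : Fin 8 → ℕ := ![21799895040, 501397585920, 10239344640, 660602880, 319440, 812, 444, 602]

/-- **the final assembly** -/
theorem thirteen (R : Rows) (T : OrderTable.{0}) (hS : Known.{0}) (H : St81)
    (f8 : Fin 8 → Subgroup 𝒢) (h1 : ∀ i, IsCoatom (f8 i)) (h2 : ∀ i, Nat.card (f8 i) = c8 i)
    (h3 : ∀ M : Subgroup 𝒢, IsCoatom M → Good geo M → ∃ i g, M = cj g (f8 i))
    (hgood : ∀ M : Subgroup 𝒢, IsCoatom M → ∀ Q₀ : Subgroup 𝒢, Q₀ ≠ ⊥ → IsPGroup 2 Q₀ → Q₀ ≤ M →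
      M ≤ normalizer (Q₀ : Set 𝒢) → Good geo M)
    (hodd : ∀ M : Subgroup 𝒢, IsCoatom M → ∀ p : ℕ, p.Prime → p ≠ 2 → ∀ Q₀ : Subgroup 𝒢, Q₀ ≠ ⊥ → IsPGroup p Q₀ →
      Q₀ ≤ M → M ≤ normalizer (Q₀ : Set 𝒢) → ∃ i g, M = cj g (f8 i)) : Thirteen 𝒢 := by
  obtain ⟨f5, k1, k2, k3⟩ := five R T hS H
  let F : Fin (8 + 5) → Subgroup 𝒢 := Fin.append f8 f5
  have hl : ∀ i : Fin 8, F (Fin.castAdd 5 i) = f8 i := fun i => Fin.append_left _ _ i
  have hr : ∀ i : Fin 5, F (Fin.natAdd 8 i) = f5 i := fun i => Fin.append_right _ _ i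
  have a1 : ∀ i : Fin (8 + 5), IsCoatom (F i) := by
    intro i
    induction i using Fin.addCases with
    | left i => rw [hl]; exact h1 i
    | right i => rw [hr]; exact k1 i
  have a2 : ∀ i : Fin (8 + 5), Nat.card (F i) = Fin.append c8 c5 i := by
    intro i
    induction i using Fin.addCases with
    | left i => rw [hl, Fin.append_left]; exact h2 i
    | right i => rw [hr, Fin.append_right]; exact k2 i
  have a3 : Function.Injective (Fin.append c8 c5) := by decide +kernel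
  refine ⟨F, a1, ?_, ?_⟩
  · intro i j hij
    have h4 : Nat.card (F i) = Nat.card (F j) := hij
    rw [a2 i, a2 j] at h4
    exact a3 h4
  · intro M hM
    by_cases hloc : NonLoc M
    · obtain ⟨i, g, h⟩ := k3 M hM hloc
      exact ⟨Fin.natAdd 8 i, g, h.trans (congrArg (cj g) (hr i).symm)⟩
    · obtain ⟨i, g, h⟩ : ∃ i g, M = cj g (f8 i) := by
        unfold NonLoc at hloc
        push Not at hloc
        obtain ⟨p, hp, Q, hQM, hQ, hn, hQb⟩ := hloc
        by_cases hp2 : p = 2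
        · subst hp2
          exact h3 M hM (hgood M hM Q hQb hQ hQM hn)
        · exact hodd M hM p hp hp2 Q hQb hQ hQM hn
      exact ⟨Fin.castAdd 5 i, g, h.trans (congrArg (cj g) (hl i).symm)⟩

end Cfsg.Agent.H854.JM
end
end

-- part: H854/JM/Local
section
prune_inst 0x5000100000000000000000000000000000000000000000000008000080000000000000000000000000000000000000000000000000000000000000000000000000000000000000000000000000000000000000000000000000000000000000000
set_option linter.all false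
open scoped Cfsg.Agent.FastGrp

-- part: H820/J4L/Odd
section
/-!
# The maximal subgroups of `J4` with a nontrivial normal `p`-subgroup, `p` odd (helper820)
-/

set_option autoImplicit false

namespace Cfsg.Agent.H820.J4L

open Cfsg Subgroup
open Cfsg.Agent.OrdDiv
open Cfsg.Agent.H866.J4Ord Cfsg.Agent.H866.J4Min Cfsg.Agent.H866.OddTools Cfsg.Agent.H866.J4Odd
open Cfsg.Agent.OddOrderLocal.SylIn

universe u

section general

variable {G : Type u} [Group G]

/-- a maximal subgroup of a simple group is the normalizer of its nontrivial normal subgroups -/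
theorem eq_normalizer [IsSimpleGroup G] {M R : Subgroup G} (hM : IsCoatom M) (hR : R ≠ ⊥) (hRM : R ≤ M)
    (hn : M ≤ normalizer (R : Set G)) : M = normalizer (R : Set G) := by
  by_contra hne
  have h1 : normalizer (R : Set G) = ⊤ := hM.2 _ (lt_of_le_of_ne hn hne)
  have h2 : R.Normal := Subgroup.normalizer_eq_top_iff.1 h1
  rcases h2.eq_bot_or_eq_top with h3 | h3
  · exact hR h3
  · exact hM.1 (top_le_iff.1 (h3 ▸ hRM))

theorem le_normalizer_of_conj {E M : Subgroup G} (h : ∀ m ∈ M, ∀ x ∈ E, m * x * m⁻¹ ∈ E) :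
    M ≤ normalizer (E : Set G) := by
  intro m hm
  rw [mem_normalizer_iff]
  intro x
  refine ⟨fun hx => h m hm x hx, fun hx => ?_⟩
  have h1 := h m⁻¹ (inv_mem hm) _ hx
  have h2 : m⁻¹ * (m * x * m⁻¹) * m⁻¹⁻¹ = x := by group
  rwa [h2] at h1

/-- a nontrivial normal elementary abelian subgroup in a nontrivial normal `p`-subgroup -/
theorem exists_ea [Finite G] {p : ℕ} [hp : Fact p.Prime] {M R : Subgroup G} (hR : R ≠ ⊥)
    (hn : M ≤ normalizer (R : Set G)) (hRp : IsPGroup p R) :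
    ∃ E : Subgroup G, E ≤ R ∧ E ≠ ⊥ ∧ M ≤ normalizer (E : Set G) ∧ IsElementaryAbelian p E := by
  let E : Subgroup G :=
    { carrier := {x | x ∈ R ∧ x ^ p = 1 ∧ ∀ y ∈ R, x * y = y * x}
      one_mem' := ⟨one_mem _, one_pow _, fun y _ => by rw [one_mul, mul_one]⟩
      mul_mem' := by
        rintro a b ⟨ha, ha1, ha2⟩ ⟨hb, hb1, hb2⟩
        refine ⟨mul_mem ha hb, ?_, fun y hy => ?_⟩
        · have : Commute a b := ha2 b hb
          rw [this.mul_pow, ha1, hb1, one_mul]
        · rw [mul_assoc, hb2 y hy, ← mul_assoc, ha2 y hy, mul_assoc]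
      inv_mem' := by
        rintro a ⟨ha, ha1, ha2⟩
        refine ⟨inv_mem ha, by rw [inv_pow, ha1, inv_one], fun y hy => ?_⟩
        have : Commute a y := ha2 y hy
        exact this.inv_left }
  have hE : ∀ x, x ∈ E ↔ x ∈ R ∧ x ^ p = 1 ∧ ∀ y ∈ R, x * y = y * x := fun x => Iff.rfl
  refine ⟨E, fun x hx => ((hE x).1 hx).1, ?_, ?_, ?_, ?_⟩
  · have : Nontrivial R := (Subgroup.nontrivial_iff_ne_bot R).2 hR
    have h1 : Nontrivial (Subgroup.center R) := hRp.center_nontrivial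
    have h2 : p ∣ Nat.card (Subgroup.center R) := by
      obtain ⟨n, hn⟩ := IsPGroup.iff_card.1 (hRp.to_subgroup (Subgroup.center R))
      rw [hn]
      refine dvd_pow_self p fun h0 => ?_
      rw [h0, pow_zero] at hn
      exact absurd Finite.one_lt_card (by rw [hn]; exact lt_irrefl 1)
    obtain ⟨⟨⟨x, hxR⟩, hxc⟩, hx⟩ := exists_prime_orderOf_dvd_card' p h2
    rw [Subgroup.orderOf_mk, Subgroup.orderOf_mk] at hx
    intro h0
    have h3 : x ∈ E := (hE x).2 ⟨hxR, by rw [← hx, pow_orderOf_eq_one], fun y hy => by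
      have := Subgroup.mem_center_iff.1 hxc ⟨y, hy⟩
      exact (congrArg Subtype.val this).symm⟩
    rw [h0, Subgroup.mem_bot] at h3
    rw [h3, orderOf_one] at hx
    exact hp.out.one_lt.ne hx
  · refine le_normalizer_of_conj fun m hm x hx => ?_
    obtain ⟨h1, h2, h3⟩ := (hE x).1 hx
    refine (hE _).2 ⟨(mem_normalizer_iff.1 (hn hm) x).1 h1, ?_, fun y hy => ?_⟩
    · rw [conj_pow, h2, mul_one, mul_inv_cancel]
    · have h4 : m⁻¹ * y * m ∈ R := by
        have := (mem_normalizer_iff.1 (hn (inv_mem hm)) y).1 hy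
        rwa [inv_inv] at this
      calc m * x * m⁻¹ * y = m * (x * (m⁻¹ * y * m)) * m⁻¹ := by group
        _ = m * (m⁻¹ * y * m * x) * m⁻¹ := by rw [h3 _ h4]
        _ = y * (m * x * m⁻¹) := by group
  · refine ⟨⟨fun a b => Subtype.ext ?_⟩⟩
    exact ((hE a).1 a.2).2.2 b ((hE b).1 b.2).1
  · intro a ha
    exact ((hE a).1 ha).2.1

/-- the elements of order at most two in the centre of the centralizer -/
theorem exists_two {R : Subgroup G} {z : G} (hz : z * z = 1) (hz1 : z ≠ 1) (hzR : z ∈ centralizer (R : Set G))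
    (hc : centralizer (R : Set G) ≤ centralizer {z}) :
    ∃ Q : Subgroup G, Q ≠ ⊥ ∧ IsPGroup 2 Q ∧ Q ≤ normalizer (R : Set G) ∧
      normalizer (R : Set G) ≤ normalizer (Q : Set G) := by
  let Q : Subgroup G :=
    { carrier := {x | x ∈ centralizer (R : Set G) ∧ x ^ 2 = 1 ∧ ∀ y ∈ centralizer (R : Set G), x * y = y * x}
      one_mem' := ⟨one_mem _, one_pow _, fun y _ => by rw [one_mul, mul_one]⟩
      mul_mem' := by
        rintro a b ⟨ha, ha1, ha2⟩ ⟨hb, hb1, hb2⟩
        refine ⟨mul_mem ha hb, ?_, fun y hy => ?_⟩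
        · have : Commute a b := ha2 b hb
          rw [this.mul_pow, ha1, hb1, one_mul]
        · rw [mul_assoc, hb2 y hy, ← mul_assoc, ha2 y hy, mul_assoc]
      inv_mem' := by
        rintro a ⟨ha, ha1, ha2⟩
        refine ⟨inv_mem ha, by rw [inv_pow, ha1, inv_one], fun y hy => ?_⟩
        have : Commute a y := ha2 y hy
        exact this.inv_left }
  have hQ : ∀ x, x ∈ Q ↔ x ∈ centralizer (R : Set G) ∧ x ^ 2 = 1 ∧
      ∀ y ∈ centralizer (R : Set G), x * y = y * x := fun x => Iff.rfl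
  have hCN : normalizer (R : Set G) ≤ normalizer (centralizer (R : Set G) : Set G) := by
    refine le_normalizer_of_conj fun m hm x hx => ?_
    rw [mem_centralizer_iff] at hx ⊢
    intro r hr
    have h4 : m⁻¹ * r * m ∈ (R : Set G) := by
      have := (mem_normalizer_iff.1 (inv_mem hm) r).1 hr
      rwa [inv_inv] at this
    calc r * (m * x * m⁻¹) = m * (m⁻¹ * r * m * x) * m⁻¹ := by group
      _ = m * (x * (m⁻¹ * r * m)) * m⁻¹ := by rw [hx _ h4]
      _ = m * x * m⁻¹ * r := by group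
  refine ⟨Q, ?_, ?_, fun x hx => Subgroup.centralizer_le_normalizer _ ((hQ x).1 hx).1, ?_⟩
  · intro h0
    have h1 : z ∈ Q := (hQ z).2 ⟨hzR, by rw [pow_two, hz], fun y hy =>
      (mem_centralizer_singleton_iff.1 (hc hy)).symm⟩
    rw [h0, Subgroup.mem_bot] at h1
    exact hz1 h1
  · intro x
    exact ⟨1, Subtype.ext (by
      have := ((hQ x).1 x.2).2.1
      rw [pow_one]
      exact this)⟩
  · refine le_normalizer_of_conj fun m hm x hx => ?_
    obtain ⟨h1, h2, h3⟩ := (hQ x).1 hx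
    refine (hQ _).2 ⟨(mem_normalizer_iff.1 (hCN hm) x).1 h1, ?_, fun y hy => ?_⟩
    · rw [conj_pow, h2, mul_one, mul_inv_cancel]
    · have h4 : m⁻¹ * y * m ∈ centralizer (R : Set G) := by
        have := (mem_normalizer_iff.1 (hCN (inv_mem hm)) y).1 hy
        rwa [inv_inv] at this
      calc m * x * m⁻¹ * y = m * (x * (m⁻¹ * y * m)) * m⁻¹ := by group
        _ = m * (m⁻¹ * y * m * x) * m⁻¹ := by rw [h3 _ h4]
        _ = y * (m * x * m⁻¹) := by group

end general

section J4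

variable {G : Type u} [Group G] [Finite G] [IsSimpleGroup G]

/-- `p = 3` -/
theorem local_three (hG : ¬ IsMulCommutative G) (hJ : Cfsg.IsOfJankoFourType G) {R : Subgroup G}
    (hR : R ≠ ⊥) (hRe : IsElementaryAbelian 3 R) :
    ∃ Q : Subgroup G, Q ≠ ⊥ ∧ IsPGroup 2 Q ∧ Q ≤ normalizer (R : Set G) ∧
      normalizer (R : Set G) ≤ normalizer (Q : Set G) := by
  have f3 : Fact (Nat.Prime 3) := ⟨Nat.prime_three⟩
  have hconj := Cfsg.Agent.S5564.result hG hJ
  obtain ⟨z, P, h⟩ := hJ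
  obtain ⟨-, -, -, -, hN⟩ := Cfsg.Agent.S5563.result hG z P h
  have hz2 : orderOf z = 2 := h.1
  have hP3 : Nat.card P = 3 := h.2.2.2.2.2.1
  obtain ⟨⟨p, hpP⟩, hp⟩ := exists_prime_orderOf_dvd_card' (G := P) 3 (by rw [hP3])
  rw [Subgroup.orderOf_mk] at hp
  have hPp : P = Subgroup.zpowers p := by
    symm
    apply Subgroup.eq_of_le_of_card_ge
    · rw [Subgroup.zpowers_le]; exact hpP
    · rw [hP3, Nat.card_zpowers, hp]
  obtain ⟨⟨r, hrR⟩, hr1⟩ := (Subgroup.ne_bot_iff_exists_ne_one (H := R)).1 hR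
  have hr3 : orderOf r = 3 := orderOf_eq_prime (hRe.2 r hrR) fun h0 => hr1 (Subtype.ext h0)
  obtain ⟨g, hg⟩ := isConj_iff.1 (hconj r p hr3 hp)
  have hC : centralizer (R : Set G) ≤ centralizer {g⁻¹ * z * g} := by
    intro x hx
    have h1 : r * x = x * r := mem_centralizer_iff.1 hx r hrR
    have h2 : g * x * g⁻¹ ∈ centralizer (P : Set G) := by
      have h2 : Commute p (g * x * g⁻¹) := by
        change p * (g * x * g⁻¹) = (g * x * g⁻¹) * p
        rw [← hg]
        calc g * r * g⁻¹ * (g * x * g⁻¹) = g * (r * x) * g⁻¹ := by group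
          _ = g * (x * r) * g⁻¹ := by rw [h1]
          _ = _ := by group
      rw [Subgroup.mem_centralizer_iff]
      intro h hh
      rw [hPp] at hh
      obtain ⟨k, rfl⟩ := hh
      exact (h2.zpow_left k).eq
    have h3 := mem_centralizer_singleton_iff.1 (hN (Subgroup.centralizer_le_normalizer (P : Set G) h2))
    rw [mem_centralizer_singleton_iff]
    calc x * (g⁻¹ * z * g) = g⁻¹ * (g * x * g⁻¹ * z) * g := by group
      _ = g⁻¹ * (z * (g * x * g⁻¹)) * g := by rw [h3]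
      _ = g⁻¹ * z * g * x := by group
  have hRC : R ≤ centralizer (R : Set G) := by
    intro x hx
    rw [mem_centralizer_iff]
    intro y hy
    exact congrArg Subtype.val (hRe.1.is_comm.comm ⟨y, hy⟩ ⟨x, hx⟩)
  refine exists_two (z := g⁻¹ * z * g) ?_ ?_ ?_ hC
  · have h2 : z * z = 1 := by rw [← pow_two, ← hz2, pow_orderOf_eq_one]
    calc g⁻¹ * z * g * (g⁻¹ * z * g) = g⁻¹ * (z * z) * g := by group
      _ = 1 := by rw [h2]; group
  · intro h0
    have h1 : z = 1 := by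
      have h3 : z = g * (g⁻¹ * z * g) * g⁻¹ := by group
      rw [h3, h0]; group
    rw [h1, orderOf_one] at hz2
    omega
  · rw [mem_centralizer_iff]
    intro y hy
    exact mem_centralizer_singleton_iff.1 (hC (hRC hy))

omit [IsSimpleGroup G] in
/-- subgroups of prime order `p`, `p ^ 2 ∤ |G|` : transport of an overgroup of the normalizer -/
theorem over_conj (hc : Nat.card G = nJ) {p : ℕ} [Fact p.Prime] (hp : ¬ p ^ 2 ∣ nJ) {P K : Subgroup G}
    (hP : Nat.card P = p) (hK : normalizer (P : Set G) ≤ K) {R : Subgroup G} (hR : Nat.card R = p) :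
    ∃ g : G, normalizer (R : Set G) ≤ K.map (MulAut.conj g).toMonoidHom := by
  obtain ⟨S, hS⟩ := Cfsg.Agent.H866.J4OddEnd.exists_sylow_eq hc (p := p) (n := 1) hp (P := P) (by rw [hP, pow_one])
  obtain ⟨T, hT⟩ := Cfsg.Agent.H866.J4OddEnd.exists_sylow_eq hc (p := p) (n := 1) hp (P := R) (by rw [hR, pow_one])
  obtain ⟨g, hg⟩ := MulAction.exists_smul_eq G S T
  refine ⟨g, ?_⟩
  have h2 : P.map (MulAut.conj g).toMonoidHom = R := by
    have := congrArg (fun S : Sylow p G => (S : Subgroup G)) hg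
    rw [← hS, ← hT]
    exact this
  rw [← h2, Cfsg.Agent.H859.Transfer.map_normalizer]
  exact map_mono hK

omit [IsSimpleGroup G] in
theorem card_of_ea (hc : Nat.card G = nJ) {p : ℕ} [hp : Fact p.Prime] (hp2 : ¬ p ^ 2 ∣ nJ) {R : Subgroup G} (hR : R ≠ ⊥)
    (hRe : IsPGroup p R) : Nat.card R = p := by
  obtain ⟨j, hj⟩ := IsPGroup.iff_card.1 hRe
  have h1 : j ≠ 0 := by
    rintro rfl
    rw [pow_zero] at hj
    exact hR (Subgroup.card_eq_one.1 hj)
  have h2 : ¬ 2 ≤ j := fun h => hp2 ((pow_dvd_pow p h).trans (hj ▸ hc ▸ Subgroup.card_subgroup_dvd_card R))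
  have h3 : j = 1 := by omega
  rw [hj, h3, pow_one]

omit [IsSimpleGroup G] in
theorem map_conj_ne_top {K : Subgroup G} (hK : K ≠ ⊤) (g : G) : K.map (MulAut.conj g).toMonoidHom ≠ ⊤ := by
  intro h
  apply hK
  apply Subgroup.eq_top_of_card_eq
  rw [← Cfsg.Agent.H859.Transfer.card_map (MulAut.conj g) K, h, Subgroup.card_top]

omit [Finite G] [IsSimpleGroup G] in
theorem map_conj_normal {K : Subgroup G} {N : Subgroup G} (h : N ≤ normalizer (K : Set G)) (g : G) :
    N.map (MulAut.conj g).toMonoidHom ≤ normalizer ((K.map (MulAut.conj g).toMonoidHom : Subgroup G) : Set G) := by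
  rw [Cfsg.Agent.H859.Transfer.map_normalizer]
  exact map_mono h

/-- `p = 5, 7` -/
theorem local_five_seven (hG : ¬ IsMulCommutative G) (hJ : Cfsg.IsOfJankoFourType G) (hc : Nat.card G = nJ)
    {p : ℕ} [hp : Fact p.Prime] (h57 : p = 5 ∨ p = 7) {M R : Subgroup G} (hM : IsCoatom M) (hR : R ≠ ⊥)
    (hMR : M = normalizer (R : Set G)) (hRp : IsPGroup p R) :
    ∃ Q : Subgroup G, Q ≠ ⊥ ∧ IsPGroup 2 Q ∧ Q ≤ M ∧ M ≤ normalizer (Q : Set G) := by
  obtain ⟨L, -, hL, -, -, -, -, -, ⟨Q5, hQ5⟩, ⟨Q7, hQ7⟩⟩ := Cfsg.Agent.S5574.result hG hJ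
  have hL1 : L ≠ ⊥ := by
    rintro rfl
    rw [Subgroup.card_bot] at hL
    norm_num at hL
  have hLp : IsPGroup 2 L := IsPGroup.of_card hL
  have hNL : normalizer (L : Set G) ≠ ⊤ := by
    intro h
    have h2 : L.Normal := Subgroup.normalizer_eq_top_iff.1 h
    rcases h2.eq_bot_or_eq_top with h3 | h3
    · exact hL1 h3
    · rw [h3, Subgroup.card_top, hc] at hL
      norm_num [nJ] at hL
  have hp2 : ¬ p ^ 2 ∣ nJ := by
    rcases h57 with rfl | rfl <;> norm_num [nJ]
  have key : ∃ Q : Subgroup G, Nat.card Q = p ∧ normalizer (Q : Set G) ≤ normalizer (L : Set G) := by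
    have hcard : ∀ Q : Sylow p G, Nat.card (Q : Subgroup G) = p := by
      intro Q
      refine card_of_ea hc hp2 ?_ Q.2
      refine Q.ne_bot_of_dvd_card ?_
      rw [hc]
      rcases h57 with rfl | rfl <;> norm_num [nJ]
    rcases h57 with rfl | rfl
    · exact ⟨Q5, hcard Q5, hQ5⟩
    · exact ⟨Q7, hcard Q7, hQ7⟩
  obtain ⟨Q, hQ, hQL⟩ := key
  obtain ⟨g, hg⟩ := over_conj hc hp2 hQ hQL (card_of_ea hc hp2 hR hRp)
  have h1 : M = (normalizer (L : Set G)).map (MulAut.conj g).toMonoidHom := by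
    by_contra hne
    exact map_conj_ne_top hNL g (hM.2 _ (lt_of_le_of_ne (hMR ▸ hg) hne))
  refine ⟨L.map (MulAut.conj g).toMonoidHom, ?_, hLp.map _, ?_, ?_⟩
  · intro h0
    apply hL1
    rwa [Subgroup.map_eq_bot_iff_of_injective _ (MulAut.conj g).injective] at h0
  · rw [h1]
    exact map_mono Subgroup.le_normalizer
  · rw [h1]
    exact map_conj_normal le_rfl g

end J4

end Cfsg.Agent.H820.J4L
end

-- part: H820/J4L/Eleven
section
/-!
# The normalizers of the nontrivial 11-subgroups of `J4` (helper820)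
-/

set_option autoImplicit false

namespace Cfsg.Agent.H820.J4L

open Cfsg Subgroup
open Cfsg.Agent.H859
open Cfsg.Agent.H859.NU (U)
open Cfsg.Agent.H859.SylEleven (N)

universe u

local notation "𝒢" => Cfsg.Spor.J4

/-- the elements of order 11 of a group of order 242 commute -/
theorem comm_of_card_242 {C : Type*} [Group C] [Finite C] (hC : Nat.card C = 242) {y w : C} (hy : y ^ 11 = 1)
    (hw : w ^ 11 = 1) : y * w = w * y := by
  have f11 : Fact (Nat.Prime 11) := ⟨by norm_num⟩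
  obtain ⟨P, hP⟩ := Sylow.exists_subgroup_card_pow_prime 11 (G := C) (n := 2) (by rw [hC]; norm_num)
  have hi : P.index = 2 := by
    have h1 := P.card_mul_index
    rw [hP, hC] at h1
    omega
  have hmem : ∀ x : C, x ^ 11 = 1 → x ∈ P := by
    intro x hx
    have h1 : x ^ 2 ∈ P := Subgroup.sq_mem_of_index_two hi x
    have h2 : x = (x ^ 2) ^ 6 := by
      rw [← pow_mul, show 2 * 6 = 11 + 1 by norm_num, pow_succ, hx, one_mul]
    rw [h2]
    exact pow_mem h1 6
  have h3 : IsMulCommutative P := IsPGroup.isMulCommutative_of_card_eq_prime_sq (p := 11) hP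
  exact congrArg Subtype.val (h3.is_comm.comm ⟨y, hmem y hy⟩ ⟨w, hmem w hw⟩)

theorem comm_in {G : Type*} [Group G] [Finite G] {C : Subgroup G} (hC : Nat.card C = 242) {y w : G} (hyC : y ∈ C)
    (hwC : w ∈ C) (hy : y ^ 11 = 1) (hw : w ^ 11 = 1) : y * w = w * y := by
  have h := comm_of_card_242 hC (y := ⟨y, hyC⟩) (w := ⟨w, hwC⟩) (Subtype.ext hy) (Subtype.ext hw)
  exact congrArg Subtype.val h

/-- the elements of order 11 of `N(U)` are in `U` -/
theorem mem_U_of_N {w : 𝒢} (hw : w ∈ N) (h11 : w ^ 11 = 1) : w ∈ U := by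
  have f11 : Fact (Nat.Prime 11) := ⟨by norm_num⟩
  have hP : IsPGroup 11 (zpowers w) := by
    rintro ⟨_, m, rfl⟩
    refine ⟨1, Subtype.ext ?_⟩
    change (w ^ m) ^ 11 ^ 1 = 1
    rw [pow_one, ← zpow_natCast, ← zpow_mul, mul_comm, zpow_mul, zpow_natCast, h11, one_zpow]
  have hn : zpowers w ≤ normalizer (U : Set 𝒢) := by
    rw [zpowers_le]
    exact hw
  have hsup : IsPGroup 11 (U ⊔ zpowers w : Subgroup 𝒢) :=
    IsPGroup.to_sup_of_normal_left' SylEleven.isPGroup_U hP hn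
  have h4 : (U ⊔ zpowers w : Subgroup 𝒢) = U :=
    (SylEleven.isPGroup_U.toSylow SylEleven.not_dvd_U).is_maximal' hsup le_sup_left
  rw [← h4]
  exact (le_sup_right : zpowers w ≤ U ⊔ zpowers w) (mem_zpowers w)

theorem norm_le {R : Subgroup 𝒢} (hR : R ≠ ⊥) (hRU : R ≤ U) : normalizer (R : Set 𝒢) ≤ N := by
  have f11 : Fact (Nat.Prime 11) := ⟨by norm_num⟩
  by_cases hRZ : R ≤ zpowers NU.c
  · have h1 : R = zpowers NU.c := by
      apply Subgroup.eq_of_le_of_card_ge hRZ
      have h2 := Subgroup.card_dvd_of_le hRZ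
      rw [Nat.card_zpowers, ClassEleven.orderOf_c] at h2 ⊢
      rcases (Nat.dvd_prime (by norm_num)).1 h2 with h3 | h3
      · exact absurd (Subgroup.card_eq_one.1 h3) hR
      · exact h3.ge
    rw [h1]
    exact CentC.normalizer_c_le
  · obtain ⟨y, hyR, hyZ⟩ : ∃ y ∈ R, y ∉ zpowers NU.c := by
      by_contra h0
      push Not at h0
      exact hRZ h0
    have hy : y ∈ SylEleven.orb N SylEleven.x := by
      rw [SylEleven.orb_eq]
      exact ⟨hRU hyR, hyZ⟩
    obtain ⟨n0, -, hn0⟩ := hy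
    have hcard : Nat.card (centralizer ({y} : Set 𝒢)) = 242 := by
      rw [← ClassEleven.card_centralizer_conj (isConj_iff.2 ⟨n0, hn0.symm⟩), SylEleven.card_centralizer_x_eq]
    have hy11 : y ^ 11 = 1 := Heis.pow_p NU.rel (by norm_num) (hRU hyR)
    have hc11 : NU.c ^ 11 = 1 := by
      rw [← ClassEleven.orderOf_c]; exact pow_orderOf_eq_one _
    have hcy : NU.c ∈ centralizer ({y} : Set 𝒢) := by
      rw [mem_centralizer_singleton_iff]
      exact Heis.w_comm NU.rel (hRU hyR)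
    have key : ∀ w ∈ centralizer ({y} : Set 𝒢), IsConj w NU.c → w ∈ zpowers NU.c := by
      intro w hw hwc
      have hw11 : w ^ 11 = 1 := by
        obtain ⟨g, hg⟩ := isConj_iff.1 (isConj_comm.1 hwc)
        rw [← hg, conj_pow, hc11, mul_one, mul_inv_cancel]
      have h1 : NU.c * w = w * NU.c :=
        comm_in hcard hcy hw hc11 hw11
      have h2 : w ∈ N := CentC.D_le (mem_centralizer_singleton_iff.2 h1.symm)
      have h3 : w ∈ U := mem_U_of_N h2 hw11
      by_contra h4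
      have h5 : w ∈ SylEleven.orb N SylEleven.x := by
        rw [SylEleven.orb_eq]
        exact ⟨h3, h4⟩
      obtain ⟨m, -, hm⟩ := h5
      exact ClassEleven.not_isConj ((isConj_iff.2 ⟨m, hm.symm⟩).trans hwc)
    intro n hn
    apply CentC.normalizer_c_le
    have h1 : ∀ m ∈ normalizer (R : Set 𝒢), m * NU.c * m⁻¹ ∈ zpowers NU.c := by
      intro m hm
      apply key
      · have h2 : m⁻¹ * y * m ∈ R := by
          have := (mem_normalizer_iff.1 (inv_mem hm) y).1 hyR
          rwa [inv_inv] at this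
        have h3 : NU.c * (m⁻¹ * y * m) = m⁻¹ * y * m * NU.c := Heis.w_comm NU.rel (hRU h2)
        rw [mem_centralizer_singleton_iff]
        calc m * NU.c * m⁻¹ * y = m * (NU.c * (m⁻¹ * y * m)) * m⁻¹ := by group
          _ = m * (m⁻¹ * y * m * NU.c) * m⁻¹ := by rw [h3]
          _ = y * (m * NU.c * m⁻¹) := by group
      · exact isConj_comm.1 (isConj_iff.2 ⟨m, rfl⟩)
    refine le_normalizer_of_conj (M := normalizer (R : Set 𝒢)) (fun m hm x hx => ?_) hn
    obtain ⟨k, rfl⟩ := hx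
    have h2 := zpow_mem (h1 m hm) k
    rwa [conj_zpow] at h2

/-- **the normalizer of a nontrivial 11-subgroup normalizes a Sylow 11-subgroup** -/
theorem norm_eleven {G : Type u} [Group G] [Finite G] (e0 : 𝒢 ≃* G) {R : Subgroup G} (hR : R ≠ ⊥)
    (hRp : IsPGroup 11 R) : ∃ V : Sylow 11 G, normalizer (R : Set G) ≤ normalizer ((V : Subgroup G) : Set G) := by
  have f11 : Fact (Nat.Prime 11) := ⟨by norm_num⟩
  obtain ⟨V, hV⟩ := hRp.exists_le_sylow
  obtain ⟨e, he⟩ := Transfer.exists_equiv e0 SylEleven.isPGroup_U SylEleven.not_dvd_U V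
  refine ⟨V, ?_⟩
  have h1 : (R.map e.symm.toMonoidHom).map e.toMonoidHom = R := by
    ext x
    constructor
    · rintro ⟨_, ⟨y, hy, rfl⟩, rfl⟩
      change e (e.symm y) ∈ R
      rwa [MulEquiv.apply_symm_apply]
    · intro hx
      exact ⟨e.symm x, ⟨x, hx, rfl⟩, e.apply_symm_apply x⟩
  have h2 : R.map e.symm.toMonoidHom ≤ U := by
    rintro _ ⟨x, hx, rfl⟩
    have h3 := hV hx
    rw [← he] at h3
    obtain ⟨v, hv, rfl⟩ := h3
    change e.symm (e v) ∈ U
    rw [MulEquiv.symm_apply_apply]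
    exact hv
  have h3 : R.map e.symm.toMonoidHom ≠ ⊥ := by
    intro h0
    apply hR
    rwa [Subgroup.map_eq_bot_iff_of_injective _ e.symm.injective] at h0
  generalize R.map e.symm.toMonoidHom = R' at h1 h2 h3
  subst h1
  rw [← he, Transfer.map_normalizer, Transfer.map_normalizer]
  exact Subgroup.map_mono (f := e.toMonoidHom) (norm_le h3 h2)

end Cfsg.Agent.H820.J4L
end

-- part: H820/J4L/OddEnd
section
/-!
# The maximal subgroups of `J4` with a nontrivial normal `p`-subgroup, `p` odd: the end (helper820)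
-/

set_option autoImplicit false

namespace Cfsg.Agent.H820.J4L

open Cfsg Subgroup
open Cfsg.Agent.OrdDiv
open Cfsg.Agent.H866.J4Ord Cfsg.Agent.H866.J4Min Cfsg.Agent.H866.OddTools Cfsg.Agent.H866.J4Odd
open Cfsg.Agent.OddOrderLocal.SylIn
open Cfsg.Agent.H860.MaxPGL (transfer)

universe u

variable {G : Type u} [Group G] [Finite G]

/-- an overgroup of the normalizer of a subgroup of prime order -/
theorem le_of_card {P K : Subgroup G} {n : ℕ} (h1 : Nat.card (normalizer (P : Set G)) = n)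
    (h2 : Nat.card (normalizer (P : Set G) ⊓ K : Subgroup G) = n) : normalizer (P : Set G) ≤ K := by
  have h3 : normalizer (P : Set G) ⊓ K = normalizer (P : Set G) :=
    Subgroup.eq_of_le_of_card_ge inf_le_left (by rw [h1, h2])
  rw [← h3]
  exact inf_le_right

/-- a maximal subgroup is not contained in a larger proper subgroup -/
theorem coatom_card {M K : Subgroup G} (hM : IsCoatom M) (hK : K ≠ ⊤) {g : G}
    (h : M ≤ K.map (MulAut.conj g).toMonoidHom) : Nat.card M = Nat.card K := by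
  have h1 : M = K.map (MulAut.conj g).toMonoidHom := by
    by_contra hne
    exact map_conj_ne_top hK g (hM.2 _ (lt_of_le_of_ne h hne))
  rw [h1]
  exact Cfsg.Agent.H859.Transfer.card_map (MulAut.conj g) K

/-- `p = 23` -/
theorem not_23 [IsSimpleGroup G] (hG : ¬ IsMulCommutative G) (hJ : Cfsg.IsOfJankoFourType G) (F : Facts G)
    (e : Cfsg.Spor.J4 ≃* G) {M R : Subgroup G} (hM : IsCoatom M) (hMR : M = normalizer (R : Set G))
    (hR : Nat.card R = 23) : False := by
  have hp : Nat.Prime 23 := by norm_num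
  have f23 : Fact (Nat.Prime 23) := ⟨hp⟩
  obtain ⟨K, hK, ⟨f⟩⟩ := Cfsg.Agent.H860.MaxPGL.part_d hG hJ F e
  have hKc : Nat.card K = 12144 := by
    rw [Nat.card_congr f.toEquiv, Cfsg.Agent.H397.ZAut.card_pgl, ZMod.card]
    norm_num
  obtain ⟨P, hP⟩ := exists_isSyl 23 K
  have hP23 : Nat.card P = 23 := card_of_isSyl hp hP (by rw [hKc]; norm_num) (by rw [hKc]; norm_num)
  obtain ⟨m, hm, he⟩ := sylow_mod hP
  have h9 : Nat.card (normalizer (P : Set G) ⊓ K : Subgroup G) ∣ 506 := by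
    have := Subgroup.card_dvd_of_le (inf_le_left : normalizer (P : Set G) ⊓ K ≤ normalizer (P : Set G))
    rwa [F.n23 P hP23] at this
  rw [hKc] at he
  have ha : Nat.card (normalizer (P : Set G) ⊓ K : Subgroup G) = 506 :=
    solve_mod (n := 506) (p := 23) (a := 506) (by decide +kernel) (by norm_num) h9 hm he
  have hle := le_of_card (n := 506) (by rw [F.n23 P hP23]) ha
  obtain ⟨g, hg⟩ := over_conj F.card (by norm_num [nJ]) hP23 hle hR
  have h10 := coatom_card hM hK.1 (hMR ▸ hg)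
  rw [hKc, hMR, F.n23 R hR] at h10
  norm_num at h10

/-- `p = 31` -/
theorem not_31 [IsSimpleGroup G] (hG : ¬ IsMulCommutative G) (hJ : Cfsg.IsOfJankoFourType G) (F : Facts G)
    (e : Cfsg.Spor.J4 ≃* G) {M R : Subgroup G} (hM : IsCoatom M) (hMR : M = normalizer (R : Set G))
    (hR : Nat.card R = 31) : False := by
  have hp : Nat.Prime 31 := by norm_num
  have f31 : Fact (Nat.Prime 31) := ⟨hp⟩
  obtain ⟨K, hK, L, Fd, i1, i2, hF, hLn, hL5, ⟨f⟩⟩ := Cfsg.Agent.H860.MaxL32.part_c hG hJ F e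
  have n31 : ∀ P : Subgroup G, Nat.card P = 31 → Nat.card (normalizer (P : Set G)) = 310 := fun P hP =>
    (transfer e (fun P hP => Cfsg.Agent.H859.BigNum.data31 hP) hP).2
  have hKc : Nat.card K = 163680 := by
    have h1 := L.card_mul_index
    have h2 := Cfsg.Agent.H277.ClsPsl.card_psl (F := Fd) hF (n := 2) le_rfl
    rw [hL5, Nat.card_congr f.toEquiv] at h1
    norm_num at h2
    rw [h2] at h1
    exact h1.symm
  obtain ⟨P, hP⟩ := exists_isSyl 31 K
  have hP31 : Nat.card P = 31 := card_of_isSyl hp hP (by rw [hKc]; norm_num) (by rw [hKc]; norm_num)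
  obtain ⟨m, hm, he⟩ := sylow_mod hP
  have h9 : Nat.card (normalizer (P : Set G) ⊓ K : Subgroup G) ∣ 310 := by
    have := Subgroup.card_dvd_of_le (inf_le_left : normalizer (P : Set G) ⊓ K ≤ normalizer (P : Set G))
    rwa [n31 P hP31] at this
  rw [hKc] at he
  have ha : Nat.card (normalizer (P : Set G) ⊓ K : Subgroup G) = 310 :=
    solve_mod (n := 310) (p := 31) (a := 310) (by decide +kernel) (by norm_num) h9 hm he
  have hle := le_of_card (n := 310) (n31 P hP31) ha
  obtain ⟨g, hg⟩ := over_conj F.card (by norm_num [nJ]) hP31 hle hR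
  have h10 := coatom_card hM hK.1 (hMR ▸ hg)
  rw [hKc, hMR, n31 R hR] at h10
  norm_num at h10

/-- **Part II.** A maximal subgroup with a nontrivial normal `p`-subgroup, `p` odd, has a nontrivial normal 2-subgroup or
is the normalizer of a Sylow subgroup for one of the primes 11, 29, 37, 43. -/
theorem odd_local [IsSimpleGroup G] (hG : ¬ IsMulCommutative G) (hJ : Cfsg.IsOfJankoFourType G) (F : Facts G)
    (e : Cfsg.Spor.J4 ≃* G) {p : ℕ} [hp : Fact p.Prime] (hp2 : p ≠ 2) {M R : Subgroup G} (hM : IsCoatom M)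
    (hR : R ≠ ⊥) (hRM : R ≤ M) (hn : M ≤ normalizer (R : Set G)) (hRp : IsPGroup p R) :
    (∃ Q : Subgroup G, Q ≠ ⊥ ∧ IsPGroup 2 Q ∧ Q ≤ M ∧ M ≤ normalizer (Q : Set G)) ∨
      (∃ U : Sylow 11 G, M = normalizer ((U : Subgroup G) : Set G)) ∨
      (∃ U : Sylow 29 G, M = normalizer ((U : Subgroup G) : Set G)) ∨
      (∃ U : Sylow 37 G, M = normalizer ((U : Subgroup G) : Set G)) ∨
      (∃ U : Sylow 43 G, M = normalizer ((U : Subgroup G) : Set G)) := by
  have hMR := eq_normalizer hM hR hRM hn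
  have hpd : p ∣ nJ := by
    obtain ⟨j, hj⟩ := IsPGroup.iff_card.1 hRp
    have h1 : j ≠ 0 := by
      rintro rfl
      rw [pow_zero] at hj
      exact hR (Subgroup.card_eq_one.1 hj)
    have h2 := F.dvd R
    rw [hj] at h2
    exact (dvd_pow_self p h1).trans h2
  obtain ⟨k, hk, -⟩ := exists_pair (p := p) (j := 1) valid_lJ hp.out le_rfl (by rw [pow_one]; exact hpd)
  have hsyl : ¬ p ^ 2 ∣ nJ → ∃ U : Sylow p G, M = normalizer ((U : Subgroup G) : Set G) := by
    intro h
    have h1 := card_of_ea F.card h hR hRp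
    obtain ⟨U, hU⟩ := Cfsg.Agent.H866.J4OddEnd.exists_sylow_eq F.card (p := p) (n := 1) h (P := R)
      (by rw [h1, pow_one])
    exact ⟨U, by rw [hU]; exact hMR⟩
  simp only [lJ, List.mem_cons, List.not_mem_nil, or_false, Prod.mk.injEq] at hk
  rcases hk with ⟨rfl, -⟩ | ⟨rfl, -⟩ | ⟨rfl, -⟩ | ⟨rfl, -⟩ | ⟨rfl, -⟩ | ⟨rfl, -⟩ | ⟨rfl, -⟩ | ⟨rfl, -⟩ | ⟨rfl, -⟩ |
    ⟨rfl, -⟩
  · exact absurd rfl hp2
  · left
    obtain ⟨E, hER, hE, hEn, hEe⟩ := exists_ea hR hn hRp
    have hME := eq_normalizer hM hE (hER.trans hRM) hEn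
    obtain ⟨Q, hQ, hQ2, hQN, hNQ⟩ := local_three hG hJ hE hEe
    exact ⟨Q, hQ, hQ2, hME ▸ hQN, hME ▸ hNQ⟩
  · left
    exact local_five_seven hG hJ F.card (Or.inl rfl) hM hR hMR hRp
  · left
    exact local_five_seven hG hJ F.card (Or.inr rfl) hM hR hMR hRp
  · right; left
    obtain ⟨V, hV⟩ := norm_eleven e hR hRp
    refine ⟨V, ?_⟩
    by_contra hne
    have h1 : normalizer ((V : Subgroup G) : Set G) = ⊤ := hM.2 _ (lt_of_le_of_ne (hMR ▸ hV) hne)
    have h2 : (V : Subgroup G).Normal := Subgroup.normalizer_eq_top_iff.1 h1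
    rcases h2.eq_bot_or_eq_top with h3 | h3
    · refine V.ne_bot_of_dvd_card ?_ h3
      rw [F.card]
      norm_num [nJ]
    · have h4 : IsPGroup 11 (⊤ : Subgroup G) := h3 ▸ V.2
      obtain ⟨j, hj⟩ := IsPGroup.iff_card.1 h4
      rw [Subgroup.card_top, F.card] at hj
      have h5 : 2 ∣ 11 ^ j := hj ▸ (by norm_num [nJ])
      have h6 := Nat.prime_two.dvd_of_dvd_pow h5
      norm_num at h6
  · exact (not_23 hG hJ F e hM hMR (card_of_ea F.card (by norm_num [nJ]) hR hRp)).elim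
  · right; right; left
    exact hsyl (by norm_num [nJ])
  · exact (not_31 hG hJ F e hM hMR (card_of_ea F.card (by norm_num [nJ]) hR hRp)).elim
  · right; right; right; left
    exact hsyl (by norm_num [nJ])
  · right; right; right; right
    exact hsyl (by norm_num [nJ])

end Cfsg.Agent.H820.J4L
end

-- part: H546/JM/Reps
section
/-!
# The eight local maximal subgroups of `Spor.J4` (helper546, for S5580)

* `isCoatom_cent_s`, `isCoatom_NEJ`, `isCoatom_NX`, `isCoatom_NL`, `isCoatom_N11`, ... ;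
* `good_conj` : a maximal subgroup `K` with `Good geo K` is conjugate to one of the first four;
* `reps8` : the package.
-/

set_option autoImplicit false
set_option linter.unusedSectionVars false

open Cfsg

namespace Cfsg.Agent.H546.JM

open Cfsg.Agent.J4.Invol (EJ s d)
open Cfsg.Agent.H860.JM
open Cfsg.Agent.H858 Cfsg.Agent.H858.VK Cfsg.Agent.J4.Pres Cfsg.Agent.J4.M24Hom
open Cfsg.Agent.H858.Loc5 Cfsg.Agent.H858.Norm57 Cfsg.Agent.H858.LGrp Cfsg.Agent.H858.NormL Cfsg.Agent.H858.MLoc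

/-- the group `Spor.J4` -/
local notation "𝒢" => Cfsg.Spor.J4

/-! ### Generalities -/

theorem isCoatom_cj {G : Type*} [Group G] (g : G) {M : Subgroup G} (hM : IsCoatom M) : IsCoatom (cj g M) :=
  (OrderIso.isCoatom_iff (MulEquiv.mapSubgroup (MulAut.conj g)) M).2 hM

theorem cent_cj {G : Type*} [Group G] (g a : G) :
    Subgroup.centralizer ({g * a * g⁻¹} : Set G) = cj g (Subgroup.centralizer ({a} : Set G)) := by
  ext x
  rw [mem_cj, Subgroup.mem_centralizer_singleton_iff, Subgroup.mem_centralizer_singleton_iff]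
  constructor
  · intro h
    calc g⁻¹ * x * g * a = g⁻¹ * (x * (g * a * g⁻¹)) * g := by group
      _ = g⁻¹ * (g * a * g⁻¹ * x) * g := by rw [h]
      _ = a * (g⁻¹ * x * g) := by group
  · intro h
    calc x * (g * a * g⁻¹) = g * (g⁻¹ * x * g * a) * g⁻¹ := by group
      _ = g * (a * (g⁻¹ * x * g)) * g⁻¹ := by rw [h]
      _ = g * a * g⁻¹ * x := by group

/-- a maximal subgroup below a maximal subgroup -/
theorem eq_of_coatom {G : Type*} [Group G] {K M : Subgroup G} (hK : IsCoatom K) (hM : IsCoatom M) (h : K ≤ M) : K = M := by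
  by_contra hne
  exact hM.1 (hK.2 M (lt_of_le_of_ne h hne))

/-- the normalizers of Sylow subgroups are conjugate -/
theorem sylow_cj {G : Type*} [Group G] [Finite G] {p : ℕ} [Fact p.Prime] (U U' : Sylow p G) :
    ∃ g : G, Subgroup.normalizer ((U' : Subgroup G) : Set G) = cj g (Subgroup.normalizer ((U : Subgroup G) : Set G)) := by
  obtain ⟨g, hg⟩ := MulAction.exists_smul_eq G U U'
  refine ⟨g, ?_⟩
  rw [← normalizer_cj, ← hg]
  rfl

theorem card_mul_relIndex {G : Type*} [Group G] [Finite G] {H K : Subgroup G} (h : H ≤ K) :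
    Nat.card H * H.relIndex K = Nat.card K := by
  rw [Subgroup.relIndex, ← Nat.card_congr (Subgroup.subgroupOfEquivOfLe h).toEquiv]
  exact Subgroup.card_mul_index _

/-- `|K H| |K ∩ H| = |K| |H|` -/
theorem card_sup_mul {G : Type*} [Group G] [Finite G] {K H : Subgroup G}
    (h : H ≤ Subgroup.normalizer (K : Set G)) :
    Nat.card (K ⊔ H : Subgroup G) * Nat.card (K ⊓ H : Subgroup G) = Nat.card K * Nat.card H := by
  have hKn : (K.subgroupOf (K ⊔ H)).Normal :=
    Subgroup.normal_subgroupOf_of_le_normalizer (sup_le Subgroup.le_normalizer h)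
  have h1 := Subgroup.relIndex_sup_left (H.subgroupOf (K ⊔ H)) (K.subgroupOf (K ⊔ H))
  rw [← Subgroup.subgroupOf_sup le_sup_left le_sup_right, Subgroup.subgroupOf_self,
    Subgroup.relIndex_subgroupOf le_sup_right, Subgroup.relIndex_top_right] at h1
  have h2 : Nat.card K * K.relIndex H = Nat.card (K ⊔ H : Subgroup G) := by
    rw [← h1]
    exact card_mul_relIndex le_sup_left
  have h3 : Nat.card (K ⊓ H : Subgroup G) * K.relIndex H = Nat.card H := by
    rw [← Subgroup.inf_relIndex_right K H]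
    exact card_mul_relIndex inf_le_right
  calc _ = Nat.card (K ⊔ H : Subgroup G) * Nat.card (K ⊓ H : Subgroup G) := rfl
    _ = Nat.card K * (Nat.card (K ⊓ H : Subgroup G) * K.relIndex H) := by rw [← h2]; ring
    _ = _ := by rw [h3]

theorem card_SL : Nat.card (Matrix.SpecialLinearGroup (Fin 5) (ZMod 2)) = 9999360 := by
  have h := Cfsg.Agent.S0242.result (F := ZMod 2) (q := 2) (ZMod.card 2) 5 (by norm_num)
  rw [Fin.prod_univ_five] at h
  have e : ((2 : ℕ) ^ 5 - 2 ^ ((0 : Fin 5) : ℕ)) * (2 ^ 5 - 2 ^ ((1 : Fin 5) : ℕ)) *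
      (2 ^ 5 - 2 ^ ((2 : Fin 5) : ℕ)) * (2 ^ 5 - 2 ^ ((3 : Fin 5) : ℕ)) *
      (2 ^ 5 - 2 ^ ((4 : Fin 5) : ℕ)) = 9999360 := by decide +kernel
  rw [e] at h
  omega

/-! ### The four 2-local subgroups -/

theorem J4_max (T : Cfsg.Agent.OrdDiv.OrderTable.{0}) (hS : Cfsg.Agent.H866.J4Min.Known.{0}) {z : 𝒢}
    (hJ : IsOfJankoFourTypeAt z) : IsCoatom (Subgroup.centralizer ({z} : Set 𝒢)) ∧
    (∀ V : Subgroup 𝒢, IsElementaryAbelian 2 V → Nat.card V = 2 ^ 11 → IsCoatom (Subgroup.normalizer (V : Set 𝒢))) ∧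
    (∀ A : Subgroup 𝒢, IsElementaryAbelian 2 A → Nat.card A = 2 ^ 10 → Subgroup.centralizer (A : Set 𝒢) = A →
      IsCoatom (Subgroup.normalizer (A : Set 𝒢))) ∧
    (∀ U : Sylow 11 𝒢, IsCoatom (Subgroup.normalizer ((U : Subgroup 𝒢) : Set 𝒢))) ∧
    (∀ U : Sylow 29 𝒢, IsCoatom (Subgroup.normalizer ((U : Subgroup 𝒢) : Set 𝒢))) ∧
    (∀ U : Sylow 37 𝒢, IsCoatom (Subgroup.normalizer ((U : Subgroup 𝒢) : Set 𝒢))) ∧
    (∀ U : Sylow 43 𝒢, IsCoatom (Subgroup.normalizer ((U : Subgroup 𝒢) : Set 𝒢))) := by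
  have := simple_J
  have := finite_J
  have hcG := Cfsg.Agent.H821.J4MaxD.card_G hJ
  have F := Cfsg.Agent.H821.J4MaxB.facts hJ
  refine ⟨Cfsg.Agent.H821.J4MaxB.case_z T hS hcG F, fun V hV hVc => ?_, fun A hA hAc hAA => ?_, ?_⟩
  · exact Cfsg.Agent.H821.J4MaxA.case_V T hS hcG hV hVc (Cfsg.Agent.S5567.result nonab isJ V hV hVc)
      (Cfsg.Agent.S5568.result nonab z hJ V hV hVc)
  · exact Cfsg.Agent.H821.J4MaxA.case_A T hS hcG hA hAc hAA ((Cfsg.Agent.S5570.result nonab isJ).2.2 A hA hAc hAA)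
  · refine Cfsg.Agent.H866.J4OddEnd.odd_end T hS hcG (z := z) (by rw [F.card_cent]; norm_num)
      (Cfsg.Agent.S5566.result nonab isJ)
      (fun S hS7 hSz => (Cfsg.Agent.S5573.result nonab z hJ S hS7 hSz).2.2) (fun U => ?_) ?_ ?_ ?_ ?_
      (Cfsg.Agent.H859.CentC.centralizer_le isJ) (Cfsg.Agent.H859.CentC.normalizer_center_le isJ)
    · obtain ⟨h1, h2, -, h3, h4⟩ := Cfsg.Agent.S5575.result nonab isJ U
      exact ⟨h1, h2, h3, h4⟩
    · exact fun U => ((Cfsg.Agent.S5577.result nonab isJ).1 U).2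
    · exact (Cfsg.Agent.S5577.result nonab isJ).2.1
    · exact (Cfsg.Agent.S5577.result nonab isJ).2.2.2.1
    · exact (Cfsg.Agent.S5577.result nonab isJ).2.2.2.2

theorem card_cent_s : Nat.card (Subgroup.centralizer ({s} : Set 𝒢)) = 21799895040 := by
  have := simple_J
  have := finite_J
  obtain ⟨z, hz⟩ := isJ
  obtain ⟨P, hP⟩ := hz
  obtain ⟨Q, N, M, H, -, -⟩ := Cfsg.Agent.H856.ToHyp.exists_hyp hP
  exact CentS.card_cent_s H

section TS

variable (T : Cfsg.Agent.OrdDiv.OrderTable.{0}) (hS : Cfsg.Agent.H866.J4Min.Known.{0})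

include T hS

theorem isCoatom_cent_s : IsCoatom (Subgroup.centralizer ({s} : Set 𝒢)) := by
  have := simple_J
  have := finite_J
  obtain ⟨z, t, hz, hsz, -⟩ := classes
  obtain ⟨g, hg⟩ := isConj_iff.1 hsz.symm
  rw [← hg, cent_cj]
  exact isCoatom_cj g (J4_max T hS hz).1

theorem isCoatom_NEJ : IsCoatom (Subgroup.normalizer (EJ : Set 𝒢)) := by
  have := simple_J
  have := finite_J
  obtain ⟨z, hz⟩ := isJ
  exact (J4_max T hS hz).2.1 EJ elem_EJ card_EJ

theorem isCoatom_NX {X : Subgroup 𝒢} (hX : geo.Xc X) : IsCoatom (Subgroup.normalizer (X : Set 𝒢)) := by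
  have := simple_J
  have := finite_J
  obtain ⟨z, hz⟩ := isJ
  exact (J4_max T hS hz).2.2.1 X hX.1 hX.2.1 hX.2.2

end TS

theorem exists_X : ∃ X : Subgroup 𝒢, geo.Xc X := by
  have := simple_J
  have := finite_J
  obtain ⟨X, h1, h2, h3⟩ := (Cfsg.Agent.S5570.result nonab isJ).1
  exact ⟨X, h1, h2, h3⟩

theorem X_conj {X X' : Subgroup 𝒢} (h : geo.Xc X) (h' : geo.Xc X') : ∃ g, X' = cj g X := by
  have := simple_J
  have := finite_J
  exact (Cfsg.Agent.S5570.result nonab isJ).2.1 X X' h.1 h.2.1 h.2.2 h'.1 h'.2.1 h'.2.2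

theorem card_NX {X : Subgroup 𝒢} (hX : geo.Xc X) : Nat.card (Subgroup.normalizer (X : Set 𝒢)) = 10239344640 := by
  have := simple_J
  have := finite_J
  obtain ⟨⟨B, hB, hi, hs, ⟨e⟩⟩, -⟩ := (Cfsg.Agent.S5570.result nonab isJ).2.2 X hX.1 hX.2.1 hX.2.2
  have h1 := card_sup_mul (K := X) (H := B) hB
  have h2 : Nat.card B = 9999360 := (Nat.card_congr e.toEquiv).trans card_SL
  have h3 : Nat.card X = 2 ^ 10 := hX.2.1
  rw [sup_comm, hs, inf_comm, hi, Subgroup.card_bot, mul_one, h2, h3] at h1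
  rw [h1]
  norm_num

theorem NZ_eq : Subgroup.normalizer (L : Set 𝒢) = Subgroup.normalizer (Loc7.Z : Set 𝒢) := (W_eq card_cent_s).2

theorem card_J : Nat.card 𝒢 = 86775571046077562880 := by
  have := simple_J
  have := finite_J
  obtain ⟨z, hz⟩ := isJ
  exact Cfsg.Agent.H858.Trans.card_G hz

section TS2

variable (T : Cfsg.Agent.OrdDiv.OrderTable.{0}) (hS : Cfsg.Agent.H866.J4Min.Known.{0})

include T hS

theorem isCoatom_NL : IsCoatom (Subgroup.normalizer (L : Set 𝒢)) := by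
  have := simple_J
  have := finite_J
  have hf5 : Fact (Nat.Prime 5) := ⟨by norm_num⟩
  have hf7 : Fact (Nat.Prime 7) := ⟨by norm_num⟩
  have h5 : ¬ 5 * 5 ∣ Nat.card 𝒢 := by rw [card_J]; norm_num
  have h7 : ¬ 7 * 7 ∣ Nat.card 𝒢 := by rw [card_J]; norm_num
  obtain ⟨z, hz⟩ := isJ
  refine Cfsg.Agent.H821.J4MaxD.part_L T hS hz
    (fun Q hQ hQz => (Cfsg.Agent.S5572.result nonab z hz Q hQ hQz).2.1)
    (fun S hS7 hSz => (Cfsg.Agent.S5573.result nonab z hz S hS7 hSz).2.2) isSpecial_L card_L card_center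
    (equiv_quot card_cent_s) ⟨(Cfsg.Agent.H858.NormC.isPGroup_of_card card_F5).toSylow
      (Cfsg.Agent.H858.NormC.not_dvd_index card_F5 h5), NF5_le.trans W_le⟩
    ⟨(Cfsg.Agent.H858.NormC.isPGroup_of_card card_S7).toSylow
      (Cfsg.Agent.H858.NormC.not_dvd_index card_S7 h7), NS7_le.trans W_le⟩

/-- a maximal subgroup `K` with `Good geo K` -/
theorem good_conj {X : Subgroup 𝒢} (hX : geo.Xc X) {K : Subgroup 𝒢} (hK : IsCoatom K) (hg : Good geo K) :
    (∃ g, K = cj g (Subgroup.centralizer ({s} : Set 𝒢))) ∨ (∃ g, K = cj g (Subgroup.normalizer (EJ : Set 𝒢))) ∨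
      (∃ g, K = cj g (Subgroup.normalizer (X : Set 𝒢))) ∨ (∃ g, K = cj g (Subgroup.normalizer (L : Set 𝒢))) := by
  rcases hg with ⟨z, hz, h⟩ | ⟨P, ⟨g, rfl⟩, h⟩ | ⟨D, ⟨g, rfl⟩, h⟩ | ⟨Y, hY, h⟩
  · obtain ⟨g, rfl⟩ := isConj_iff.1 hz
    rw [cent_cj] at h
    exact Or.inl ⟨g, eq_of_coatom hK (isCoatom_cj g (isCoatom_cent_s T hS)) h⟩
  · rw [normalizer_cj] at h
    exact Or.inr (Or.inl ⟨g, eq_of_coatom hK (isCoatom_cj g (isCoatom_NEJ T hS)) h⟩)
  · rw [normalizer_cj, ← NZ_eq] at h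
    exact Or.inr (Or.inr (Or.inr ⟨g, eq_of_coatom hK (isCoatom_cj g (isCoatom_NL T hS)) h⟩))
  · obtain ⟨g, rfl⟩ := X_conj hX hY
    rw [normalizer_cj] at h
    exact Or.inr (Or.inr (Or.inl ⟨g, eq_of_coatom hK (isCoatom_cj g (isCoatom_NX T hS hX)) h⟩))

/-- **The eight local maximal subgroups.** -/
theorem reps8 : ∃ M : Fin 8 → Subgroup 𝒢, (∀ i, IsCoatom (M i)) ∧
    (∀ i, Nat.card (M i) = ![21799895040, 501397585920, 10239344640, 660602880, 319440, 812, 444, 602] i) ∧
    (∀ K, IsCoatom K → Good geo K → ∃ i g, K = cj g (M i)) ∧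
    ∀ p ∈ [11, 29, 37, 43], ∀ [Fact p.Prime], ∀ U : Sylow p 𝒢,
      ∃ i g, Subgroup.normalizer ((U : Subgroup 𝒢) : Set 𝒢) = cj g (M i) := by
  have := simple_J
  have := finite_J
  have f11 : Fact (Nat.Prime 11) := ⟨by norm_num⟩
  have f29 : Fact (Nat.Prime 29) := ⟨by norm_num⟩
  have f37 : Fact (Nat.Prime 37) := ⟨by norm_num⟩
  have f43 : Fact (Nat.Prime 43) := ⟨by norm_num⟩
  obtain ⟨z, hz⟩ := isJ
  obtain ⟨-, -, -, c11, c29, c37, c43⟩ := J4_max T hS hz
  obtain ⟨-, o29, -, o37, o43⟩ := Cfsg.Agent.S5577.result nonab isJ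
  obtain ⟨X, hX⟩ := exists_X
  obtain ⟨U11⟩ : Nonempty (Sylow 11 𝒢) := inferInstance
  obtain ⟨U29⟩ : Nonempty (Sylow 29 𝒢) := inferInstance
  obtain ⟨U37⟩ : Nonempty (Sylow 37 𝒢) := inferInstance
  obtain ⟨U43⟩ : Nonempty (Sylow 43 𝒢) := inferInstance
  have o11 := (Cfsg.Agent.S5575.result nonab isJ U11).2.2.2.1
  let N : Fin 8 → Subgroup 𝒢 := ![Subgroup.centralizer ({s} : Set 𝒢), Subgroup.normalizer (EJ : Set 𝒢),
    Subgroup.normalizer (X : Set 𝒢), Subgroup.normalizer (L : Set 𝒢),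
    Subgroup.normalizer ((U11 : Subgroup 𝒢) : Set 𝒢), Subgroup.normalizer ((U29 : Subgroup 𝒢) : Set 𝒢),
    Subgroup.normalizer ((U37 : Subgroup 𝒢) : Set 𝒢), Subgroup.normalizer ((U43 : Subgroup 𝒢) : Set 𝒢)]
  refine ⟨N, ?_, ?_, ?_, ?_⟩
  · intro i
    fin_cases i
    · exact isCoatom_cent_s T hS
    · exact isCoatom_NEJ T hS
    · exact isCoatom_NX T hS hX
    · exact isCoatom_NL T hS
    · exact c11 U11
    · exact c29 U29
    · exact c37 U37
    · exact c43 U43
  · intro i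
    fin_cases i
    · exact card_cent_s
    · exact card_NEJ
    · exact card_NX hX
    · exact card_NL card_cent_s
    · exact o11
    · exact (o29 U29).2
    · exact (o37 U37).2
    · exact (o43 U43).2
  · intro K hK hg
    rcases good_conj T hS hX hK hg with ⟨g, h⟩ | ⟨g, h⟩ | ⟨g, h⟩ | ⟨g, h⟩
    · exact ⟨0, g, h⟩
    · exact ⟨1, g, h⟩
    · exact ⟨2, g, h⟩
    · exact ⟨3, g, h⟩
  · intro p hp _ U
    simp only [List.mem_cons, List.not_mem_nil, or_false] at hp
    rcases hp with rfl | rfl | rfl | rfl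
    · obtain ⟨g, h⟩ := sylow_cj U11 U
      exact ⟨4, g, h⟩
    · obtain ⟨g, h⟩ := sylow_cj U29 U
      exact ⟨5, g, h⟩
    · obtain ⟨g, h⟩ := sylow_cj U37 U
      exact ⟨6, g, h⟩
    · obtain ⟨g, h⟩ := sylow_cj U43 U
      exact ⟨7, g, h⟩

end TS2

end Cfsg.Agent.H546.JM
end

-- part: H705/JM/F18
section
/-!
# (F18) three commuting 2B elements whose points have trivial intersection
-/

set_option autoImplicit false

namespace Cfsg.Agent.H705.JM

open Cfsg Cfsg.Agent.J4.Rep112 Cfsg.Agent.J4.Beta Cfsg.Agent.J4.ClassesAbs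
open Cfsg.Agent.J4.ClassesData Cfsg.Agent.J4.M24Hom Cfsg.Agent.J4.Classes Cfsg.Agent.J4.Pres
open Cfsg.Agent.J4.M24InvolData Cfsg.Agent.SporadicStructure.M24El
open Cfsg.Agent.H858.VK (rho_injective phi_injective actG mem_B phi_norm)
open Cfsg.Agent.H858.Data (V rho_V V_xor V_zero V_sq V_inv V_comm V_inj V_mem)
open Cfsg.Agent.H858.Loc7 (Z)
open Cfsg.Agent.H825.JM (conj_word normalizer_EJ line_EJ)
open Cfsg.Agent.H860.JM Cfsg.Agent.H705.JM.BadData Cfsg.Agent.H705.JM.BadAbs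
open Cfsg.Agent.H705.JM.BadBase Cfsg.Agent.H705.JM.BadFacts

/-- the group `Spor.J4` -/
local notation "𝒢" => Cfsg.Spor.J4
/-- the group `2^11` -/
local notation "𝓔" => Cfsg.Agent.J4.Invol.EJ

theorem xor_lt {a b : ℕ} (ha : a < 2048) (hb : b < 2048) : a ^^^ b < 2048 :=
  Nat.xor_lt_two_pow (n := 11) ha hb

/-! ### (R1) -/

/-- the labels of `Z` -/
def zlab : List ℕ := [0, 165, 873, 972, 1394, 1495, 1563, 1726]

theorem zlab_mem : ∀ e ∈ zlab, V e ∈ Z := by
  have h : (zlab.all fun e => (List.range 8).any fun u =>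
      Nat.beq (lin Cfsg.Agent.H858.Data.zl u) e) = true := by decide +kernel
  rw [List.all_eq_true] at h
  intro e he
  have h1 := h e he
  rw [List.any_eq_true] at h1
  obtain ⟨u, -, h2⟩ := h1
  rw [Nat.beq_eq] at h2
  exact Cfsg.Agent.H858.Loc7.V_mem_Z u h2

theorem zlab_lt : ∀ e ∈ zlab, e < 2048 := by decide

/-- the elements of `Z` of type a with `V(q)` -/
def zf (q : ℕ) : List ℕ := zlab.filter fun e => Nat.beq e 0 ||
  (!(Nat.beq (Nat.xor e q) 0) && sx (Nat.xor e q))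

private def fr {α : Type} (x : ℕ) (f : ℕ → α) : α := Nat.rec (f 0) (fun k _ => f k) (Nat.succ x)

private noncomputable def linF (A : List ℕ) : ℕ → ℕ :=
  List.rec (motive := fun _ => ℕ → ℕ) (fun _ => 0)
    (fun a _ ih v => Nat.xor (Nat.mul a (Nat.mod v 2)) (fr (Nat.div v 2) ih)) A

private theorem lin_fast : lin = linF := by
  funext A
  induction A with
  | nil => rfl
  | cons a A ih =>
    funext v
    change cond (Nat.beq (v % 2) 1) (a ^^^ lin A (v / 2)) (lin A (v / 2)) = a * (v % 2) ^^^ linF A (v / 2)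
    rw [ih]
    rcases Nat.mod_two_eq_zero_or_one v with h | h <;> rw [h]
    · exact (Nat.zero_xor _).symm
    · rw [Nat.mul_one]
      rfl

private theorem len_fast (p : ℕ → Bool) : ∀ l : List ℕ,
    (l.filter p).length = List.rec 0 (fun a _ r => Bool.rec r (Nat.succ r) (p a)) l
  | [] => rfl
  | a :: l => by
    change _ = (Bool.rec _ _ (p a) : ℕ)
    rw [List.filter_cons, ← len_fast p l]
    cases p a <;> rfl

theorem zf_ok : ((List.range 2048).all fun q => Nat.beq q 0 || !(sx q) ||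
    Nat.ble 4 (zf q).length) = true := by
  have e : ∀ q e, (Nat.beq e 0 || (!(Nat.beq (Nat.xor e q) 0) && sx (Nat.xor e q))) = Bool.rec (fr (Nat.xor e q) fun x =>
      Bool.rec (sx x) false (Nat.beq x 0)) true (Nat.beq e 0) := fun q e => by
    change _ = (Bool.rec (Bool.rec (sx (Nat.xor e q)) false (Nat.beq (Nat.xor e q) 0)) true (Nat.beq e 0) : Bool)
    cases Nat.beq e 0 <;> cases Nat.beq (Nat.xor e q) 0 <;> rfl
  simp only [zf, len_fast, e]
  decide +kernel

theorem r1 (h5 : F5 geo) : R1 geo := by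
  rintro _ _ x ⟨k, rfl⟩ ⟨h, rfl⟩ hle hx hA
  have h1 : cj (h⁻¹ * k) Z ≤ 𝓔 := by
    rw [← cj_cj]
    intro y hy
    rw [mem_cj] at hy
    have h2 := hle hy
    rw [mem_cj] at h2
    have e : h⁻¹ * (h⁻¹⁻¹ * y * h⁻¹) * h = y := by group
    rwa [e] at h2
  obtain ⟨m, hm⟩ := line_EJ h5 h1
  set g := h * phi m with hg
  have hP : cj h 𝓔 = cj g 𝓔 := by
    rw [hg, ← cj_cj]
    congr 1
    rw [eq_comm, cj_eq_iff]
    exact phi_norm ⟨m, rfl⟩
  have hD : cj k Z = cj g Z := by
    rw [hg, ← cj_cj, ← hm, cj_cj, mul_inv_cancel_left]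
  rw [hP] at hx
  rw [hD]
  obtain ⟨q, hq, rfl⟩ := exists_V hx
  obtain ⟨h0, hs⟩ := sx_of_A hq (A_of_conj hA)
  have h2 := zf_ok
  rw [List.all_eq_true] at h2
  have h3 := h2 q (List.mem_range.2 hq)
  rw [hs, Bool.not_true, Bool.or_false, Bool.or_eq_true, Nat.beq_eq, Nat.ble_eq] at h3
  rcases h3 with h3 | h3
  · exact absurd h3 h0
  · refine h3.trans (le_ncard (g := g) ?_ ?_ ?_)
    · exact List.Nodup.filter _ (by decide)
    · intro e he
      exact zlab_lt e (List.mem_filter.1 he).1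
    · intro e he
      obtain ⟨he1, he2⟩ := List.mem_filter.1 he
      refine ⟨?_, ?_⟩
      · rw [mem_cj]
        have e1 : g⁻¹ * (g * V e * g⁻¹) * g = V e := by group
        rw [e1]
        exact zlab_mem e he1
      · rw [Bool.or_eq_true, Nat.beq_eq, Bool.and_eq_true, Bool.not_eq_true'] at he2
        rcases he2 with he2 | ⟨he2, he3⟩
        · left
          rw [he2, V_zero, mul_one, mul_inv_cancel]
        · right
          rw [conj_mul, ← V_xor]
          refine A_conj' (A_of_sx (xor_lt (zlab_lt e he1) hq) ?_ he3)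
          intro h4
          have h5 : Nat.beq (Nat.xor e q) 0 = true := by
            rw [Nat.beq_eq]
            exact h4
          rw [h5] at he2
          exact absurd he2 (by decide)

/-! ### (Z1) -/

/-- the labels of `[V, X]` -/
def lX : List ℕ := (List.range 2048).filter fun v => Nat.beq (lin Ax v) v && Nat.beq (v % 2) 0

private theorem lX_eq : lX = [0, 10, 20, 30, 160, 170, 180, 190, 320, 330, 340, 350, 480, 490, 500, 510, 1536, 1546, 1556, 1566, 1696, 1706, 1716, 1726, 1856, 1866, 1876, 1886, 2016, 2026, 2036, 2046] := by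
  rw [lX, lin_fast]
  decide +kernel

theorem lX_length : lX.length = 32 := by rw [lX_eq]; rfl

theorem lX_sx : (lX.all fun v => Nat.beq v 0 || sx v) = true := by
  rw [lX_eq]
  decide +kernel

theorem xor_odd {k v : ℕ} (hk : k % 2 = 1) (hv : v % 2 = 0) : (v ^^^ k) % 2 = 1 := by
  rw [xor_mod_two, hk, hv]

theorem Ax_xor {k v : ℕ} (hk : lin Ax k = k) (hv : lin Ax v = v) : lin Ax (v ^^^ k) = v ^^^ k := by
  rw [Cfsg.Agent.H858.Pent.lin_xor, hk, hv]

/-- `F_w ⊇ [V, X]` for `w = V(k) X` of class 2A -/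
theorem fs_X {g : 𝒢} {k v : ℕ} (hk : k < 2048) (hfk : lin Ax k = k) (hk1 : k % 2 = 1)
    (hv : v ∈ lX) : g * V v * g⁻¹ ∈ Fs geo (cj g 𝓔) (g * (V k * phi XM) * g⁻¹) := by
  have h1 := lX_sx
  rw [List.all_eq_true] at h1
  have h2 := h1 v hv
  obtain ⟨h3, h4⟩ := List.mem_filter.1 hv
  rw [List.mem_range] at h3
  rw [Bool.and_eq_true, Nat.beq_eq, Nat.beq_eq] at h4
  rw [Bool.or_eq_true, Nat.beq_eq] at h2
  refine ⟨mem_cj_V _ _, ?_, ?_⟩
  · rw [conj_mul, conj_mul]
    congr 2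
    exact (comm_iff actX' Ax_lt h3).2 h4.1
  · by_cases h0 : v = 0
    · left
      rw [h0, V_zero, mul_one, mul_inv_cancel]
    · right
      refine ⟨A_conj' (A_of_sx h3 h0 (h2.resolve_left h0)), ?_⟩
      rw [conj_mul, ← mul_assoc (V v) (V k), ← V_xor]
      exact A_conj' (X_A (xor_lt h3 hk) (Ax_xor hfk h4.1) (xor_odd hk1 h4.2))

theorem mem20 : 20 ∈ lX := by decide +kernel

theorem isX_X {g : 𝒢} {k : ℕ} (hk : k < 2048) (hfk : lin Ax k = k) (hk1 : k % 2 = 1) :
    IsX geo (cj g 𝓔) (g * (V k * phi XM) * g⁻¹) (g * V 20 * g⁻¹) := by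
  refine ⟨fs_X hk hfk hk1 mem20, ?_, X_line hk hfk hk1⟩
  exact A_ne (A_conj' (A_of_sx (by norm_num) (by norm_num) (by decide +kernel)))

theorem act_X {g : 𝒢} {k : ℕ} (hk : k < 2048) (hfk : lin Ax k = k) (hk1 : k % 2 = 1) :
    Act geo (cj g 𝓔) (g * (V k * phi XM) * g⁻¹) := by
  refine ⟨?_, ?_, A_conj' (X_A hk hfk hk1)⟩
  · rw [normalizer_cj, mem_cj]
    have e : g⁻¹ * (g * (V k * phi XM) * g⁻¹) * g = V k * phi XM := by group
    rw [e]
    exact Subgroup.mul_mem _ (Subgroup.le_normalizer (V_mem k)) (phi_norm ⟨_, rfl⟩)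
  · intro h
    rw [mem_cj] at h
    have e : g⁻¹ * (g * (V k * phi XM) * g⁻¹) * g = V k * phi XM := by group
    rw [e] at h
    apply phiX_notMem
    have h1 := Subgroup.mul_mem _ (V_mem k) h
    rwa [← mul_assoc, V_sq, one_mul] at h1

theorem kb_X (hkind : ∀ P w, geo.Pt P → Act geo P w → KA geo P w ∨ KB geo P w) {g : 𝒢} {k : ℕ}
    (hk : k < 2048) (hfk : lin Ax k = k) (hk1 : k % 2 = 1) :
    KB geo (cj g 𝓔) (g * (V k * phi XM) * g⁻¹) := by
  rcases hkind _ _ ⟨g, rfl⟩ (act_X (g := g) hk hfk hk1) with h | h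
  · exfalso
    have h1 : lX.length ≤ _ := le_ncard (g := g)
      (S := Fs geo (cj g 𝓔) (g * (V k * phi XM) * g⁻¹))
      (List.Nodup.filter _ List.nodup_range)
      (fun e he => List.mem_range.1 (List.mem_filter.1 he).1) (fun e he => fs_X hk hfk hk1 he)
    rw [lX_length, h.card] at h1
    omega
  · exact h

theorem duad_X : ((List.range 2048).all fun k => !(Nat.beq (lin Ax k) k) || Nat.beq k 0 || sx k ||
    (Nat.beq (k % 2) 1 && !(sx (Nat.xor k 20)) && !(Nat.beq (Nat.xor k 20) 0))) = true := by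
  rw [lin_fast]
  decide +kernel

theorem fano_two : ∀ k < 8, k ≠ 0 → ∃ e₁ ∈ fano k, ∃ e₂ ∈ fano k, e₁ ≠ e₂ ∧ e₁ ≠ 0 ∧ e₂ ≠ 0 ∧
    e₁ < 2048 ∧ e₂ < 2048 := by decide

theorem z1 (h4 : F4 geo) (hkind : ∀ P w, geo.Pt P → Act geo P w → KA geo P w ∨ KB geo P w) :
    Z1 geo := by
  rintro a b z _ P' ha hb hab ⟨g0, rfl⟩ hP' haP hbP hne hz
  have hbn : b ∈ Subgroup.normalizer (cj g0 𝓔 : Set 𝒢) := norm4 h4 ha ⟨g0, rfl⟩ haP hab.symm
  have hbP0 : b ∉ cj g0 𝓔 := fun h => hne (uniq4 h4 hb ⟨g0, rfl⟩ hP' h hbP)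
  obtain ⟨g, hg, v, hv, hb1 | hb1⟩ := types hbn hbP0 (B_sq hb)
  · -- type 1
    exfalso
    rw [hb1] at hb hbP
    obtain ⟨-, h0, h8⟩ := kap_B hv (B_of_conj hb)
    have h1 := one_pts h4 hv hb hP' hbP
    obtain ⟨e₁, m₁, e₂, m₂, n12, n1, n2, l1, l2⟩ := fano_two _ h8 h0
    have h2 : ∀ e ∈ fano (lin KK v), e ≠ 0 → e < 2048 → g * V e * g⁻¹ = z := by
      intro e he he0 hlt
      rcases (hz _).1 ⟨by rw [← hg]; exact mem_cj_V g e, h1 e he⟩ with h3 | h3
      · exfalso
        apply V_ne hlt he0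
        calc V e = g⁻¹ * (g * V e * g⁻¹) * g := by group
          _ = 1 := by rw [h3]; group
      · exact h3
    have h3 := (h2 e₁ m₁ n1 l1).trans (h2 e₂ m₂ n2 l2).symm
    exact n12 (V_inj l1 l2 (conj_inj h3))
  · -- type 2
    rw [hb1] at hb hbP
    obtain ⟨k, hk, hbk, hVk⟩ := X_norm hv hb
    rw [hb1, hbk] at hab
    rw [hbk] at hb hbP
    have hPk : cj g0 𝓔 = cj k 𝓔 := by rw [hk, hg]
    rw [hPk] at haP hz hne
    have h20 : k * V 20 * k⁻¹ ∈ cj k 𝓔 ⊓ P' := ⟨mem_cj_V _ _, X20 h4 hP' hbP⟩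
    have h201 : k * V 20 * k⁻¹ ≠ 1 := A_ne (A_conj' (A_of_sx (by norm_num) (by norm_num)
      (by decide +kernel)))
    have hz20 : z = k * V 20 * k⁻¹ := by
      rcases (hz _).1 h20 with h1 | h1
      · exact absurd h1 h201
      · exact h1.symm
    obtain ⟨q, hq, rfl⟩ := exists_V haP
    obtain ⟨q0, qs⟩ := sx_of_B hq (B_of_conj ha)
    have hcomm : V q * (V 0 * phi XM) = V 0 * phi XM * V q := by
      rw [conj_mul, conj_mul] at hab
      rw [V_zero, one_mul]
      exact conj_inj hab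
    have hfq : lin Ax q = q := (comm_iff actX' Ax_lt hq).1 hcomm
    have h1 := duad_X
    rw [List.all_eq_true] at h1
    have h2 := h1 q (List.mem_range.2 hq)
    rw [hfq, Nat.beq_refl, Bool.not_true, Bool.false_or, qs, Bool.or_false, Bool.or_eq_true,
      Nat.beq_eq, Bool.and_eq_true, Bool.and_eq_true, Nat.beq_eq, Bool.not_eq_true',
      Bool.not_eq_true'] at h2
    obtain ⟨⟨hq1, hq2⟩, hq3⟩ := h2.resolve_left q0
    have hab' : k * V q * k⁻¹ * b = k * (V q * phi XM) * k⁻¹ := by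
      rw [hb1, hbk, conj_mul]
    rw [hab', hPk, hz20]
    refine ⟨A_conj' (X_A hq hfq hq1), kb_X hkind hq hfq hq1, isX_X hq hfq hq1, ?_⟩
    rw [conj_mul, ← V_xor]
    refine B_conj' (B_of_sx (xor_lt hq (by norm_num)) ?_ hq2)
    intro h3
    have h5 : Nat.beq (Nat.xor q 20) 0 = true := by
      rw [Nat.beq_eq]
      exact h3
    rw [h5] at hq3
    exact absurd hq3 (by decide)

/-! ### (Z3) -/

/-- the labels of `[V, σ]` -/
def l1 : List ℕ := (List.range 2048).filter fun v => Nat.beq (lin A1 v) v && Nat.beq (lin KK v) 0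

theorem l1_length : l1.length = 16 := by
  rw [l1, lin_fast]
  decide +kernel

theorem norm_mul {G : Type*} [Group G] {P : Subgroup G} {x y : G} (hx : x ∈ P)
    (hy : y ∈ Subgroup.normalizer (P : Set G)) : x * y ∈ Subgroup.normalizer (P : Set G) :=
  Subgroup.mul_mem _ (Subgroup.le_normalizer hx) hy

theorem z3 (h4 : F4 geo) (h5 : F5 geo) (h6 : F6 geo) : Z3 geo := by
  rintro w w' z _ P' ⟨g0, rfl⟩ hKB hX hw hww hB hP' hwP'
  have htn : w * w' ∈ Subgroup.normalizer (cj g0 𝓔 : Set 𝒢) := norm_mul hw hKB.act.mem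
  have htP : w * w' ∉ cj g0 𝓔 := by
    intro h
    apply hKB.act.not_mem
    have h1 := Subgroup.mul_mem _ (Subgroup.inv_mem _ hw) h
    rwa [inv_mul_cancel_left] at h1
  obtain ⟨g, hg, v, hv, ht | ht⟩ := types htn htP (B_sq hB)
  · -- type 1
    exfalso
    rw [← hg] at hw hKB
    obtain ⟨q, hq, rfl⟩ := exists_V hw
    have hw' : w' = g * (V (q ^^^ v) * phi (el P1)) * g⁻¹ := by
      have e : w' = g * V q * g⁻¹ * (g * V q * g⁻¹ * w') := by
        rw [← mul_assoc, conj_mul, V_sq, mul_one, mul_inv_cancel, one_mul]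
      rw [e, ht, conj_mul, V_xor, mul_assoc (V q) (V v)]
    have hA := hKB.act.A
    rw [hw'] at hA
    obtain ⟨f1, k1⟩ := kap_A (xor_lt hq hv) (A_of_conj hA)
    have h1 : (Fs geo (cj g 𝓔) w').ncard ≤ l1.length := by
      refine ncard_le (g := g) ?_
      rintro x ⟨hx1, hx2, hx3⟩
      obtain ⟨y, hy, rfl⟩ := exists_V hx1
      refine ⟨y, ?_, rfl⟩
      have hfy : lin A1 y = y := by
        rw [hw', conj_mul, conj_mul] at hx2
        exact (comm_iff act1' A1_lt hy).1 (conj_inj hx2)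
      have hky : lin KK y = 0 := by
        rcases hx3 with hx3 | ⟨-, hx3⟩
        · have h2 : V y = V 0 := by
            rw [V_zero]
            calc V y = g⁻¹ * (g * V y * g⁻¹) * g := by group
              _ = 1 := by rw [hx3]; group
          rw [V_inj hy (by norm_num) h2]
          decide
        · rw [hw', conj_mul, ← mul_assoc (V y), ← V_xor] at hx3
          obtain ⟨-, k2⟩ := kap_A (xor_lt hy (xor_lt hq hv)) (A_of_conj hx3)
          rw [Cfsg.Agent.H858.Pent.lin_xor, k1, Nat.xor_zero] at k2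
          exact k2
      refine List.mem_filter.2 ⟨List.mem_range.2 hy, ?_⟩
      rw [Bool.and_eq_true, Nat.beq_eq, Nat.beq_eq]
      exact ⟨hfy, hky⟩
    rw [l1_length, hKB.card] at h1
    omega
  · -- type 2
    have hBt := hB
    rw [ht] at hBt
    obtain ⟨k, hk, htk, hVk⟩ := X_norm hv hBt
    rw [htk] at ht
    have hPk : cj g0 𝓔 = cj k 𝓔 := by rw [hk, hg]
    rw [hPk] at hw hKB hX ⊢
    rw [ht] at hwP'
    have hup := X_upper h4 h5 h6 hP' hwP'
    have hz : z = k * V 20 * k⁻¹ := by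
      obtain ⟨q, hq, rfl⟩ := exists_V hw
      have hw' : w' = k * (V q * phi XM) * k⁻¹ := by
        have e : w' = k * V q * k⁻¹ * (k * V q * k⁻¹ * w') := by
          rw [← mul_assoc, conj_mul, V_sq, mul_one, mul_inv_cancel, one_mul]
        rw [e, ht, conj_mul]
      have hA := hKB.act.A
      rw [hw'] at hA
      obtain ⟨f1, k1⟩ := parity_A hq (A_of_conj hA)
      have h1 := isX_X (g := k) hq f1 k1
      rw [← hw'] at h1
      obtain ⟨x, -, hx, -⟩ := hKB.ex
      rw [hx _ hX, hx _ h1]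
    rw [hz]
    exact hup

/-! ### (Be) -/

/-- an element in the coset -/
theorem coset {φ : 𝒢} {A : List ℕ} (hact : ∀ v, φ * V v * φ⁻¹ = V (lin A v))
    (hA : ∀ v < 2048, lin A v < 2048) {g a b : 𝒢} {v : ℕ} (hv : v < 2048)
    (ha : a = g * (V v * φ) * g⁻¹) (haa : a * a = 1) (hab : a * b ∈ cj g 𝓔) :
    ∃ w < 2048, b = g * (V w * φ) * g⁻¹ := by
  obtain ⟨x, hx, h1⟩ := exists_V hab
  refine ⟨v ^^^ lin A x, xor_lt hv (hA x hx), ?_⟩
  have h2 : b = a * (a * b) := by rw [← mul_assoc, haa, one_mul]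
  rw [h2, h1, ha, conj_mul, mul_assoc (V v), push hact, ← mul_assoc (V v), V_xor]

/-- the product of two elements of the coset -/
theorem coset_mul {φ : 𝒢} {A : List ℕ} (hact : ∀ v, φ * V v * φ⁻¹ = V (lin A v))
    (hφ : φ * φ = 1) {g : 𝒢} {v w : ℕ} (hw : lin A w = w) :
    g * (V v * φ) * g⁻¹ * (g * (V w * φ) * g⁻¹) = g * V (v ^^^ w) * g⁻¹ := by
  rw [conj_mul]
  congr 2
  calc V v * φ * (V w * φ) = V v * (φ * V w) * φ := by group
    _ = V v * V w * (φ * φ) := by rw [push hact, hw]; group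
    _ = V (v ^^^ w) := by rw [hφ, mul_one, V_xor]

/-- the check of a triple -/
def tri (a b c : ℕ) : Bool :=
  ((fano a).any fun e => (fano b).contains e && (fano c).contains e) ||
  ((fano a).any fun e => (fano b).contains e && (fano a).any fun e' => (fano c).contains e' &&
    (fano b).any fun e'' => (fano c).contains e'' && F8.all fun f => (List.range 8).any fun i =>
      Nat.beq (lin [e, e', e''] i) f)

theorem tri_ok : ((List.range 8).all fun a => Nat.beq a 0 || (List.range 8).all fun b =>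
    Nat.beq b 0 || (List.range 8).all fun c => Nat.beq c 0 || tri a b c) = true := by
  decide +kernel

theorem fano_pos : ∀ k < 8, ∀ e ∈ fano k, e ≠ 0 ∧ e < 2048 := by decide

/-- duads in `F`-cosets -/
theorem duad_F : ((List.range 2048).all fun v => !(Nat.beq (lin A1 v) v) || Nat.beq (lin KK v) 0 ||
    !(Nat.beq (lin SS v) 0) || F8.any fun f => !(sx (Nat.xor v f))) = true := by
  rw [lin_fast]
  decide +kernel

theorem SS_lt : ((List.range 2048).all fun v => Nat.blt (lin SS v) 2) = true := by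
  rw [lin_fast]
  decide +kernel

theorem F8_nodup : F8.Nodup := by decide
theorem F8_prop : ∀ f ∈ F8, f < 2048 ∧ lin A1 f = f ∧ lin KK f = 0 := by decide +kernel

theorem xor_fin : ∀ a < 8, ∀ b < 8, a ≠ b → a ^^^ b ≠ 0 := by decide

/-- the order of `K` -/
theorem card_K {K : Subgroup 𝒢} {g : 𝒢} {w w' : ℕ} (hw : w < 2048) (hw' : w' < 2048)
    (h0 : lin KK w ≠ 0) (h0' : lin KK w' ≠ 0) (h1 : lin KK (w ^^^ w') ≠ 0)
    (hF : ∀ f ∈ F8, g * V f * g⁻¹ ∈ K) (hK : g * V w * g⁻¹ ∈ K) (hK' : g * V w' * g⁻¹ ∈ K) :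
    32 ≤ Nat.card K := by
  have hmul : ∀ {a b : ℕ}, g * V a * g⁻¹ ∈ K → g * V b * g⁻¹ ∈ K → g * V (a ^^^ b) * g⁻¹ ∈ K := by
    intro a b ha hb
    have h2 := K.mul_mem ha hb
    rwa [conj_mul, ← V_xor] at h2
  have key : ∀ (l : List ℕ) (x : ℕ), l.Nodup → x < 2048 → (∀ e ∈ l, e < 2048) →
      (∀ e ∈ l, e ^^^ x ∉ l) → (l ++ l.map (· ^^^ x)).Nodup := by
    intro l x hl hx hlt hn
    rw [List.nodup_append]
    refine ⟨hl, ?_, ?_⟩
    · refine List.Nodup.map ?_ hl
      intro a b hab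
      have h2 : (a ^^^ x) ^^^ x = (b ^^^ x) ^^^ x := congrArg (· ^^^ x) hab
      rwa [Nat.xor_assoc, Nat.xor_self, Nat.xor_zero, Nat.xor_assoc, Nat.xor_self,
        Nat.xor_zero] at h2
    · rintro a ha b hb rfl
      obtain ⟨c, hc, hca⟩ := List.mem_map.1 hb
      exact hn c hc (by rw [hca]; exact ha)
  set l := F8 ++ F8.map (· ^^^ w) with hl
  have hk : ∀ e ∈ l, lin KK e = 0 ∨ lin KK e = lin KK w := by
    intro e he
    rcases List.mem_append.1 he with h2 | h2
    · exact Or.inl (F8_prop e h2).2.2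
    · obtain ⟨c, hc, rfl⟩ := List.mem_map.1 h2
      right
      show lin KK (c ^^^ w) = _
      rw [Cfsg.Agent.H858.Pent.lin_xor, (F8_prop c hc).2.2, Nat.zero_xor]
  have hlt : ∀ e ∈ l, e < 2048 := by
    intro e he
    rcases List.mem_append.1 he with h2 | h2
    · exact (F8_prop e h2).1
    · obtain ⟨c, hc, rfl⟩ := List.mem_map.1 h2
      exact xor_lt (F8_prop c hc).1 hw
  have n1 : l.Nodup := by
    refine key F8 w F8_nodup hw (fun e he => (F8_prop e he).1) ?_
    intro e he h2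
    have h3 := (F8_prop _ h2).2.2
    rw [Cfsg.Agent.H858.Pent.lin_xor, (F8_prop e he).2.2, Nat.zero_xor] at h3
    exact h0 h3
  have h1' : lin KK w ^^^ lin KK w' ≠ 0 := by
    rw [← Cfsg.Agent.H858.Pent.lin_xor]
    exact h1
  have n2 : (l ++ l.map (· ^^^ w')).Nodup := by
    refine key l w' n1 hw' hlt ?_
    intro e he h2
    have h3 := hk _ h2
    rw [Cfsg.Agent.H858.Pent.lin_xor] at h3
    rcases hk e he with h4 | h4 <;> rw [h4] at h3
    · rw [Nat.zero_xor] at h3
      rcases h3 with h3 | h3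
      · exact h0' h3
      · apply h1'
        rw [h3, Nat.xor_self]
    · rcases h3 with h3 | h3
      · exact h1' h3
      · apply h0'
        have h5 : lin KK w ^^^ (lin KK w ^^^ lin KK w') = lin KK w ^^^ lin KK w := by rw [h3]
        rwa [← Nat.xor_assoc, Nat.xor_self, Nat.zero_xor] at h5
  have hlK : ∀ e ∈ l, g * V e * g⁻¹ ∈ K := by
    intro e he
    rcases List.mem_append.1 he with h2 | h2
    · exact hF e h2
    · obtain ⟨c, hc, rfl⟩ := List.mem_map.1 h2
      exact hmul (hF c hc) hK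
  have h2 : (l ++ l.map (· ^^^ w')).length ≤ (K : Set 𝒢).ncard := by
    refine le_ncard (g := g) n2 ?_ ?_
    · intro e he
      rcases List.mem_append.1 he with h2 | h2
      · exact hlt e h2
      · obtain ⟨c, hc, rfl⟩ := List.mem_map.1 h2
        exact xor_lt (hlt c hc) hw'
    · intro e he
      rcases List.mem_append.1 he with h2 | h2
      · exact hlK e h2
      · obtain ⟨c, hc, rfl⟩ := List.mem_map.1 h2
        exact hmul (hlK c hc) hK'
  have h3 : (l ++ l.map (· ^^^ w')).length = 32 := by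
    rw [List.length_append, List.length_map, hl, List.length_append, List.length_map]
    rfl
  rw [h3] at h2
  exact h2

/-- a 2B element -/
theorem exists_B {g : 𝒢} {w : ℕ} (hw : w < 2048) (hf : lin A1 w = w) (h0 : lin KK w ≠ 0)
    (hs : lin SS w = 0) : ∃ f ∈ F8, geo.B (g * V (w ^^^ f) * g⁻¹) := by
  have h1 := duad_F
  rw [List.all_eq_true] at h1
  have h2 := h1 w (List.mem_range.2 hw)
  rw [hf, hs, Nat.beq_refl, Nat.beq_refl, Bool.not_true, Bool.false_or, Bool.or_false,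
    Bool.or_eq_true, Nat.beq_eq, List.any_eq_true] at h2
  rcases h2 with h2 | ⟨f, hfm, h2⟩
  · exact absurd h2 h0
  · refine ⟨f, hfm, B_conj' (B_of_sx (xor_lt hw (F8_prop f hfm).1) ?_ ?_)⟩
    · intro h3
      apply h0
      have h4 : lin KK (w ^^^ f) = lin KK 0 := by rw [h3]
      rw [Cfsg.Agent.H858.Pent.lin_xor, (F8_prop f hfm).2.2, Nat.xor_zero] at h4
      rw [h4]
      decide
    · rw [Bool.not_eq_true'] at h2
      exact h2

theorem be (h4 : F4 geo) (h5 : F5 geo) (h6 : F6 geo) : Be geo := by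
  rintro a b c Pa Pb Pc _ ha hb hc hab hac hbc hPa hPb hPc haP hbP hcP h0 ⟨g0, rfl⟩ han haP0 hab'
    hac'
  have h0' : ∀ u, u ∈ Pa → u ∈ Pb → u ∈ Pc → u = 1 := by
    intro u h1 h2 h3
    have h4 : u ∈ Pa ⊓ Pb ⊓ Pc := ⟨⟨h1, h2⟩, h3⟩
    rwa [h0, Subgroup.mem_bot] at h4
  obtain ⟨g, hg, v1, hv1, ha1 | ha1⟩ := types han haP0 (B_sq ha)
  swap
  · -- type 2
    exfalso
    rw [← hg] at hab' hac'
    obtain ⟨v2, hv2, hb1⟩ := coset actX' Ax_lt hv1 ha1 (B_sq ha) hab'
    obtain ⟨v3, hv3, hc1⟩ := coset actX' Ax_lt hv1 ha1 (B_sq ha) hac'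
    have key : ∀ {v : ℕ} {u : 𝒢} {P : Subgroup 𝒢}, v < 2048 → u = g * (V v * phi XM) * g⁻¹ →
        geo.B u → geo.Pt P → u ∈ P → g * V 20 * g⁻¹ ∈ P := by
      rintro v u P hv rfl hu hP huP
      obtain ⟨k, -, h1, h2⟩ := X_norm hv hu
      rw [h1] at huP
      rw [← h2]
      exact X20 h4 hP huP
    refine A_ne (A_conj' (g := g) (A_of_sx (q := 20) (by norm_num) (by norm_num)
      (by decide +kernel))) (h0' _ (key hv1 ha1 ha hPa haP) (key hv2 hb1 hb hPb hbP)
        (key hv3 hc1 hc hPc hcP))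
  · -- type 1
    rw [← hg] at hab' hac' han haP0 ⊢
    obtain ⟨v2, hv2, hb1⟩ := coset act1' A1_lt hv1 ha1 (B_sq ha) hab'
    obtain ⟨v3, hv3, hc1⟩ := coset act1' A1_lt hv1 ha1 (B_sq ha) hac'
    subst ha1 hb1 hc1
    obtain ⟨f1, k1, l1⟩ := kap_B hv1 (B_of_conj ha)
    obtain ⟨f2, k2, l2⟩ := kap_B hv2 (B_of_conj hb)
    obtain ⟨f3, k3, l3⟩ := kap_B hv3 (B_of_conj hc)
    have p1 := one_pts h4 hv1 ha hPa haP
    have p2 := one_pts h4 hv2 hb hPb hbP
    have p3 := one_pts h4 hv3 hc hPc hcP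
    have hV1 : ∀ e, e ≠ 0 → e < 2048 → g * V e * g⁻¹ ≠ 1 := by
      intro e he0 he h1
      apply V_ne he he0
      calc V e = g⁻¹ * (g * V e * g⁻¹) * g := by group
        _ = 1 := by rw [h1]; group
    -- the table
    have ht := tri_ok
    rw [List.all_eq_true] at ht
    have ht1 := ht _ (List.mem_range.2 l1)
    rw [Bool.or_eq_true, Nat.beq_eq, List.all_eq_true] at ht1
    have ht2 := ht1.resolve_left k1 _ (List.mem_range.2 l2)
    rw [Bool.or_eq_true, Nat.beq_eq, List.all_eq_true] at ht2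
    have ht3 := ht2.resolve_left k2 _ (List.mem_range.2 l3)
    rw [Bool.or_eq_true, Nat.beq_eq] at ht3
    have ht4 := ht3.resolve_left k3
    unfold tri at ht4
    rw [Bool.or_eq_true, List.any_eq_true, List.any_eq_true] at ht4
    rcases ht4 with ⟨e, he, he1⟩ | ⟨e, he, he1⟩
    · exfalso
      rw [Bool.and_eq_true, List.contains_iff_mem, List.contains_iff_mem] at he1
      obtain ⟨n1, n2⟩ := fano_pos _ l1 e he
      exact hV1 e n1 n2 (h0' _ (p1 e he) (p2 e he1.1) (p3 e he1.2))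
    · rw [Bool.and_eq_true, List.contains_iff_mem, List.any_eq_true] at he1
      obtain ⟨he2, e', he', he3⟩ := he1
      rw [Bool.and_eq_true, List.contains_iff_mem, List.any_eq_true] at he3
      obtain ⟨he4, e'', he'', he5⟩ := he3
      rw [Bool.and_eq_true, List.contains_iff_mem, List.all_eq_true] at he5
      obtain ⟨he6, hF⟩ := he5
      obtain ⟨n1, m1⟩ := fano_pos _ l1 e he
      obtain ⟨n2, m2⟩ := fano_pos _ l1 e' he'
      obtain ⟨n3, m3⟩ := fano_pos _ l2 e'' he''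
      set P := cj g 𝓔 with hP
      have hPt : geo.Pt P := ⟨g, rfl⟩
      -- the kappas are different
      have ne_of : ∀ {v w : ℕ} {Q R : Subgroup 𝒢}, v < 2048 → w < 2048 →
          lin KK v < 8 → lin KK w < 8 → lin KK v = lin KK w → lin KK v ≠ 0 → 
          (∀ x ∈ fano (lin KK v), g * V x * g⁻¹ ∈ Q) → (∀ x ∈ fano (lin KK w), g * V x * g⁻¹ ∈ R) →
          ∀ x ∈ fano (lin KK v), g * V x * g⁻¹ ∈ R := by
        intro v w Q R _ _ _ _ h1 _ _ h3 x hx
        rw [h1] at hx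
        exact h3 x hx
      have d12 : lin KK v1 ≠ lin KK v2 := by
        intro h1
        exact hV1 e' n2 m2 (h0' _ (p1 e' he') (p2 e' (by rw [← h1]; exact he')) (p3 e' he4))
      have d13 : lin KK v1 ≠ lin KK v3 := by
        intro h1
        exact hV1 e n1 m1 (h0' _ (p1 e he) (p2 e he2) (p3 e (by rw [← h1]; exact he)))
      have d23 : lin KK v2 ≠ lin KK v3 := by
        intro h1
        exact hV1 e n1 m1 (h0' _ (p1 e he) (p2 e he2) (p3 e (by rw [← h1]; exact he2)))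
      -- intersections of order 2
      have hna : P ≠ Pa := by rintro h1; rw [← h1] at haP; exact haP0 haP
      have hbP0 : g * (V v2 * phi (el P1)) * g⁻¹ ∉ P := by
        intro h1
        apply haP0
        have h2 := P.mul_mem hab' (P.inv_mem h1)
        rwa [mul_inv_cancel_right] at h2
      have hcP0 : g * (V v3 * phi (el P1)) * g⁻¹ ∉ P := by
        intro h1
        apply haP0
        have h2 := P.mul_mem hac' (P.inv_mem h1)
        rwa [mul_inv_cancel_right] at h2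
      have hnb : P ≠ Pb := by rintro h1; rw [← h1] at hbP; exact hbP0 hbP
      have hnc : P ≠ Pc := by rintro h1; rw [← h1] at hcP; exact hcP0 hcP
      have two : ∀ {Q : Subgroup 𝒢}, geo.Pt Q → P ≠ Q → ∀ {x y : 𝒢}, x ∈ P → x ∈ Q → x ≠ 1 →
          y ∈ P → y ∈ Q → y ≠ 1 → x ≠ y → geo.Ln (P ⊓ Q) := by
        intro Q hQ hne x y hx hx' hx1 hy hy' hy1 hxy
        rcases h5 P Q hPt hQ hne with h1 | ⟨z, -, h1⟩ | h1
        · exfalso
          apply hx1
          have h2 : x ∈ P ⊓ Q := ⟨hx, hx'⟩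
          rwa [h1, Subgroup.mem_bot] at h2
        · exfalso
          rcases (h1 x).1 ⟨hx, hx'⟩ with h2 | h2
          · exact hx1 h2
          · rcases (h1 y).1 ⟨hy, hy'⟩ with h3 | h3
            · exact hy1 h3
            · exact hxy (h2.trans h3.symm)
        · exact h1
      have uni : ∀ {Q R S : Subgroup 𝒢}, geo.Pt Q → geo.Pt R → P ≠ Q → P ≠ R →
          (∀ u, u ∈ Q → u ∈ R → u ∈ S → u = 1) → ∀ {x y : 𝒢}, x ∈ P → x ∈ Q → x ∈ R → x ≠ 1 →
          y ∈ P → y ∈ Q → y ∈ S → y ≠ 1 → ∀ u, u ∈ P → u ∈ Q → u ∈ R → u = 1 ∨ u = x := by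
        intro Q R S hQ hR hneQ hneR hS x y hx hx1 hx2 hx3 hy hy1 hy2 hy3 u hu hu1 hu2
        by_contra hcon
        rw [not_or] at hcon
        obtain ⟨hu3, hu4⟩ := hcon
        have D1 := two hQ hneQ hu hu1 hu3 hx hx1 hx3 hu4
        have D2 := two hR hneR hu hu2 hu3 hx hx2 hx3 hu4
        have D3 := h6.uniq _ _ D1 D2 u x hu3 hx3 hu4 ⟨hu, hu1⟩ ⟨hx, hx1⟩ ⟨hu, hu2⟩ ⟨hx, hx2⟩
        have D4 : y ∈ P ⊓ Q := ⟨hy, hy1⟩
        rw [D3] at D4
        exact hy3 (hS y hy1 D4.2 hy2)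
      have memP : ∀ x, g * V x * g⁻¹ ∈ P := fun x => mem_cj_V g x
      have u12 := uni hPa hPb hna hnb h0' (memP e) (p1 e he) (p2 e he2) (hV1 e n1 m1)
        (memP e') (p1 e' he') (p3 e' he4) (hV1 e' n2 m2)
      have u13 := uni hPa hPc hna hnc (fun u h1 h2 h3 => h0' u h1 h3 h2) (memP e') (p1 e' he')
        (p3 e' he4) (hV1 e' n2 m2) (memP e) (p1 e he) (p2 e he2) (hV1 e n1 m1)
      have u23 := uni hPb hPc hnb hnc (fun u h1 h2 h3 => h0' u h3 h1 h2) (memP e'') (p2 e'' he'')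
        (p3 e'' he6) (hV1 e'' n3 m3) (memP e) (p2 e he2) (p1 e he) (hV1 e n1 m1)
      -- the centralizing elements
      set Y : Set 𝒢 := {y | y ∈ Subgroup.normalizer (P : Set 𝒢) ∧
        y * (g * (V v1 * phi (el P1)) * g⁻¹) = g * (V v1 * phi (el P1)) * g⁻¹ * y ∧
        y * (g * (V v2 * phi (el P1)) * g⁻¹) = g * (V v2 * phi (el P1)) * g⁻¹ * y ∧
        y * (g * (V v3 * phi (el P1)) * g⁻¹) = g * (V v3 * phi (el P1)) * g⁻¹ * y} with hY
      have hfix : ∀ {Q R : Subgroup 𝒢} {x y : 𝒢}, x ∈ P → x ∈ Q → x ∈ R → x ≠ 1 →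
          (∀ u, u ∈ P → u ∈ Q → u ∈ R → u = 1 ∨ u = x) → y ∈ Subgroup.normalizer (P : Set 𝒢) →
          y ∈ Subgroup.normalizer (Q : Set 𝒢) → y ∈ Subgroup.normalizer (R : Set 𝒢) →
          y * x = x * y := by
        intro Q R x y hx hx1 hx2 hx3 hu hy hy1 hy2
        rcases hu (y * x * y⁻¹) ((Subgroup.mem_normalizer_iff.1 hy x).1 hx)
          ((Subgroup.mem_normalizer_iff.1 hy1 x).1 hx1)
          ((Subgroup.mem_normalizer_iff.1 hy2 x).1 hx2) with h1 | h1
        · exfalso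
          apply hx3
          calc x = y⁻¹ * (y * x * y⁻¹) * y := by group
            _ = 1 := by rw [h1]; group
        · rwa [mul_inv_eq_iff_eq_mul] at h1
      set K : Subgroup 𝒢 := P ⊓ Subgroup.centralizer Y with hK
      have hmemK : ∀ x, x ∈ P → (∀ y ∈ Y, y * x = x * y) → x ∈ K := by
        intro x hx hx1
        rw [hK, Subgroup.mem_inf, Subgroup.mem_centralizer_iff]
        exact ⟨hx, hx1⟩
      have K12 : g * V e * g⁻¹ ∈ K := by
        refine hmemK _ (memP e) fun y hy => hfix (memP e) (p1 e he) (p2 e he2) (hV1 e n1 m1) u12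
          hy.1 (norm4 h4 ha hPa haP hy.2.1) (norm4 h4 hb hPb hbP hy.2.2.1)
      have K13 : g * V e' * g⁻¹ ∈ K := by
        refine hmemK _ (memP e') fun y hy => hfix (memP e') (p1 e' he') (p3 e' he4)
          (hV1 e' n2 m2) u13 hy.1 (norm4 h4 ha hPa haP hy.2.1) (norm4 h4 hc hPc hcP hy.2.2.2)
      have K23 : g * V e'' * g⁻¹ ∈ K := by
        refine hmemK _ (memP e'') fun y hy => hfix (memP e'') (p2 e'' he'') (p3 e'' he6)
          (hV1 e'' n3 m3) u23 hy.1 (norm4 h4 hb hPb hbP hy.2.2.1)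
          (norm4 h4 hc hPc hcP hy.2.2.2)
      have hmul : ∀ {x x' : ℕ}, g * V x * g⁻¹ ∈ K → g * V x' * g⁻¹ ∈ K →
          g * V (x ^^^ x') * g⁻¹ ∈ K := by
        intro x x' hx hx'
        have h2 := K.mul_mem hx hx'
        rwa [conj_mul, ← V_xor] at h2
      have hprod : ∀ {x x' : 𝒢}, (∀ y ∈ Y, y * x = x * y) → (∀ y ∈ Y, y * x' = x' * y) →
          ∀ y ∈ Y, y * (x * x') = x * x' * y := by
        intro x x' hx hx' y hy
        rw [← mul_assoc, hx y hy, mul_assoc, hx' y hy, mul_assoc]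
      have Kab : g * V (v1 ^^^ v2) * g⁻¹ ∈ K := by
        rw [← coset_mul act1' phi1_sq f2]
        exact hmemK _ hab' (hprod (fun y hy => hy.2.1) fun y hy => hy.2.2.1)
      have Kac : g * V (v1 ^^^ v3) * g⁻¹ ∈ K := by
        rw [← coset_mul act1' phi1_sq f3]
        exact hmemK _ hac' (hprod (fun y hy => hy.2.1) fun y hy => hy.2.2.2)
      have KF : ∀ f ∈ F8, g * V f * g⁻¹ ∈ K := by
        intro f hf
        have h1 := hF f hf
        rw [List.any_eq_true] at h1
        obtain ⟨i, -, h2⟩ := h1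
        rw [Nat.beq_eq] at h2
        have h3 : Cfsg.Agent.H858.Pent.span [e, e', e''] ≤ K.comap (MulAut.conj g).toMonoidHom := by
          apply Cfsg.Agent.H858.Pent.span_le
          intro x hx
          simp only [List.mem_cons, List.not_mem_nil, or_false] at hx
          rcases hx with rfl | rfl | rfl
          · exact K12
          · exact K13
          · exact K23
        exact h3 (Cfsg.Agent.H858.Pent.mem_span_of i h2)
      have kx : ∀ {v w : ℕ}, lin KK v < 8 → lin KK w < 8 → lin KK v ≠ lin KK w →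
          lin KK (v ^^^ w) ≠ 0 := by
        intro v w hv hw hne
        rw [Cfsg.Agent.H858.Pent.lin_xor]
        exact xor_fin _ hv _ hw hne
      have e23 : (v1 ^^^ v2) ^^^ (v1 ^^^ v3) = v2 ^^^ v3 := by
        rw [Nat.xor_comm v1 v2, Nat.xor_assoc, ← Nat.xor_assoc v1 v1, Nat.xor_self, Nat.zero_xor]
      have x12 := xor_lt hv1 hv2
      have x13 := xor_lt hv1 hv3
      have x23 := xor_lt hv2 hv3
      have hA1 : ∀ {v w : ℕ}, lin A1 v = v → lin A1 w = w → lin A1 (v ^^^ w) = v ^^^ w := by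
        intro v w hv hw
        rw [Cfsg.Agent.H858.Pent.lin_xor, hv, hw]
      refine ⟨K, inf_le_left, ?_, ?_, ?_⟩
      · refine card_K x12 x13 (kx l1 l2 d12) (kx l1 l3 d13) ?_ KF Kab Kac
        rw [e23]
        exact kx l2 l3 d23
      · have hs := SS_lt
        rw [List.all_eq_true] at hs
        have s12 := hs _ (List.mem_range.2 x12)
        have s13 := hs _ (List.mem_range.2 x13)
        rw [Nat.blt_eq] at s12 s13
        have hsum : lin SS (v2 ^^^ v3) = lin SS (v1 ^^^ v2) ^^^ lin SS (v1 ^^^ v3) := by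
          rw [← Cfsg.Agent.H858.Pent.lin_xor, e23]
        have fin : ∀ {w : ℕ}, w < 2048 → lin A1 w = w → lin KK w ≠ 0 → lin SS w = 0 →
            g * V w * g⁻¹ ∈ K → ∃ t ∈ K, geo.B t := by
          intro w hw hf hk hs hwK
          obtain ⟨f, hf1, hf2⟩ := exists_B (g := g) hw hf hk hs
          exact ⟨_, hmul hwK (KF f hf1), hf2⟩
        by_cases z12 : lin SS (v1 ^^^ v2) = 0
        · exact fin x12 (hA1 f1 f2) (kx l1 l2 d12) z12 Kab
        by_cases z13 : lin SS (v1 ^^^ v3) = 0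
        · exact fin x13 (hA1 f1 f3) (kx l1 l3 d13) z13 Kac
        refine fin x23 (hA1 f2 f3) (kx l2 l3 d23) ?_ (by rw [← e23]; exact hmul Kab Kac)
        have y12 : lin SS (v1 ^^^ v2) = 1 := by omega
        have y13 : lin SS (v1 ^^^ v3) = 1 := by omega
        rw [hsum, y12, y13]
        rfl
      · intro x hx y hy hya hyb hyc
        have h1 := (Subgroup.mem_centralizer_iff.1 hx.2) y ⟨hy, hya, hyb, hyc⟩
        exact h1.symm

/-- **(F18)** -/
theorem f18 (h1 : F1 geo) (h3 : F3 geo) (h4 : F4 geo) (h5 : F5 geo) (h6 : F6 geo) (h7 : F7 geo)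
    (h9 : F9 geo) (h13 : F13 geo) : F18 geo := by
  have : Finite 𝒢 := Cfsg.Agent.H858.VK.finite_J4
  exact f18_abs ⟨h1, h3, h4, h5, h6, h7, h9.kind, h13, r1 h5, z1 h4 h9.kind, z3 h4 h5 h6,
    be h4 h5 h6⟩

end Cfsg.Agent.H705.JM
end

-- part: H796/JM/FSixA
section
/-!
# Part (a) of `F16` : an elementary abelian group with an element with fixed points (helper796)
-/

set_option autoImplicit false

open scoped Pointwise

namespace Cfsg.Agent.H796.JM

open Cfsg Cfsg.Agent.SporadicA.GolayBase Cfsg.Agent.SporadicA.OctadFix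
open Cfsg.Agent.J4Type Cfsg.Agent.J4Type.CocodeMask Cfsg.Agent.J4Type.TauM24
open Cfsg.Agent.J4Type.TauMask Cfsg.Agent.J4Type.FrameDefs
open Cfsg.Agent.H857.Card Cfsg.Agent.H857.Classify Cfsg.Agent.H857.WGrp
open Cfsg.Agent.H857.Orbits Cfsg.Agent.H857.Normal Cfsg.Agent.H857.T10Norm

variable {G : Type*} [Group G]

/-- `|C_W(n)| ≤ 16` -/
theorem card_cent_le [Finite G] (C : J4Type.Compl G) {O : Finset GolayPt} (hO : O ∈ octads)
    (n : NE C.toFrame) (hn2 : (C.π n : Equiv.Perm GolayPt) * (C.π n : Equiv.Perm GolayPt) = 1)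
    (hnO : (C.π n : Equiv.Perm GolayPt) • O = O) (hnf : (C.π n : Equiv.Perm GolayPt) ∉ fixOct O) :
    Nat.card (WG C.toFrame O ⊓ Subgroup.centralizer ({(n : G)} : Set G) : Subgroup G) ≤ 16 := by
  obtain ⟨x, hx, hgx⟩ : ∃ x ∈ O, (C.π n : Equiv.Perm GolayPt) x ≠ x := by
    by_contra hno
    push Not at hno
    exact hnf (mem_fixOct.2 ⟨(C.π n).2, hno⟩)
  obtain ⟨y, hy, z, hz, hxy, hxz, hyz, h1, h2, h3, h4⟩ := exists_yz hO (C.π n).2 hn2 hnO hx hgx
  have h5 := four_mul_card (F := C.toFrame) (n := n) hx hy hz hxy hxz hyz hgx h1 h2 h3 h4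
  have h6 := card_WG_le (F := C.toFrame) hO
  omega

/-- case (ii) -/
theorem card_cent_two_le_aux [Finite G] (C : J4Type.Compl G) {O : Finset GolayPt} (hO : O ∈ octads)
    (n m : NE C.toFrame) (hn2 : (C.π n : Equiv.Perm GolayPt) * (C.π n : Equiv.Perm GolayPt) = 1)
    (hnO : (C.π n : Equiv.Perm GolayPt) • O = O) (hmO : (C.π m : Equiv.Perm GolayPt) • O = O)
    (hnf : (C.π n : Equiv.Perm GolayPt) ∉ fixOct O)
    (hnm : (C.π n : Equiv.Perm GolayPt) * (C.π m : Equiv.Perm GolayPt) =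
      (C.π m : Equiv.Perm GolayPt) * (C.π n : Equiv.Perm GolayPt)) {x : GolayPt} (hx : x ∈ O)
    (hnx : (C.π n : Equiv.Perm GolayPt) x = x) (hmx : (C.π m : Equiv.Perm GolayPt) x ≠ x) :
    Nat.card (WG C.toFrame O ⊓ Subgroup.centralizer ({(n : G)} : Set G) ⊓
      Subgroup.centralizer ({(m : G)} : Set G) : Subgroup G) ≤ 8 := by
  have h16 := card_cent_le C hO n hn2 hnO hnf
  set g := (C.π n : Equiv.Perm GolayPt) with hg
  set h := (C.π m : Equiv.Perm GolayPt) with hh
  have hhxO : h x ∈ O := (FusionM22.mem_iff_of_smul_eq hmO x).2 hx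
  have hghx : g (h x) = h x := by
    rw [← Equiv.Perm.mul_apply, hnm, Equiv.Perm.mul_apply, hnx]
  have hgg : ∀ y ∈ O, g (g y) = y := fun y _ => by rw [← Equiv.Perm.mul_apply, hn2]; rfl
  have h4 : (Finset.univ.filter fun y : ↥O => g y = y).card = 4 :=
    FusionM22.card_fix_octad hO (C.π n).2 hgg hnO hx hhxO (Ne.symm hmx) hnx hghx
      (fun hall => hnf (mem_fixOct.2 ⟨(C.π n).2, hall⟩))
  obtain ⟨y, hyO, hgy, hyx, hyhx⟩ : ∃ y ∈ O, g y = y ∧ y ≠ x ∧ y ≠ h x := by
    by_contra hno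
    push Not at hno
    have h5 : (Finset.univ.filter fun y : ↥O => g y = y) ⊆ {⟨x, hx⟩, ⟨h x, hhxO⟩} := by
      intro y hy
      rw [Finset.mem_filter] at hy
      rw [Finset.mem_insert, Finset.mem_singleton]
      by_cases hyx : (y : GolayPt) = x
      · exact Or.inl (Subtype.ext hyx)
      · exact Or.inr (Subtype.ext (hno y y.2 hy.2 hyx))
    have h6 := Finset.card_le_card h5
    have h7 := Finset.card_le_two (a := (⟨x, hx⟩ : ↥O)) (b := ⟨h x, hhxO⟩)
    omega
  have h5 : 2 * Nat.card (WG C.toFrame O ⊓ Subgroup.centralizer ({(n : G)} : Set G) ⊓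
      Subgroup.centralizer ({(m : G)} : Set G) : Subgroup G) ≤
      Nat.card (WG C.toFrame O ⊓ Subgroup.centralizer ({(n : G)} : Set G) : Subgroup G) := by
    apply two_mul_card_le inf_le_left (a := C.ε {x, y})
    · refine ⟨duad_mem_WG hx hyO (Ne.symm hyx), Subgroup.mem_centralizer_singleton_iff.2 ?_⟩
      have h6 := C.π_smul n {x, y} (even_pair' (Ne.symm hyx))
      have h7 : g • ({x, y} : Finset GolayPt) = {x, y} := by
        rw [Finset.smul_finset_insert, Finset.smul_finset_singleton]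
        show ({g x, g y} : Finset GolayPt) = _
        rw [hnx, hgy]
      rw [← hg, h7] at h6
      exact (mul_inv_eq_iff_eq_mul.1 h6).symm
    · rintro ⟨-, h6⟩
      rcases duad_comm (Ne.symm hyx) (Subgroup.mem_centralizer_singleton_iff.1 h6).symm with h7 | h7
      · exact hmx h7
      · exact hyhx h7.symm
  omega

/-- `|C_W(n, m)| ≤ 8` if `n, m, n m` are nontrivial on `O` -/
theorem card_cent_two_le [Finite G] (C : J4Type.Compl G) {O : Finset GolayPt} (hO : O ∈ octads)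
    (n m : NE C.toFrame) (hn2 : (C.π n : Equiv.Perm GolayPt) * (C.π n : Equiv.Perm GolayPt) = 1)
    (hm2 : (C.π m : Equiv.Perm GolayPt) * (C.π m : Equiv.Perm GolayPt) = 1)
    (hnO : (C.π n : Equiv.Perm GolayPt) • O = O) (hmO : (C.π m : Equiv.Perm GolayPt) • O = O)
    (hnf : (C.π n : Equiv.Perm GolayPt) ∉ fixOct O) (hmf : (C.π m : Equiv.Perm GolayPt) ∉ fixOct O)
    (hnmf : (C.π n : Equiv.Perm GolayPt) * (C.π m : Equiv.Perm GolayPt) ∉ fixOct O)
    (hnm : (C.π n : Equiv.Perm GolayPt) * (C.π m : Equiv.Perm GolayPt) =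
      (C.π m : Equiv.Perm GolayPt) * (C.π n : Equiv.Perm GolayPt)) :
    Nat.card (WG C.toFrame O ⊓ Subgroup.centralizer ({(n : G)} : Set G) ⊓
      Subgroup.centralizer ({(m : G)} : Set G) : Subgroup G) ≤ 8 := by
  by_cases h2 : ∃ x ∈ O, (C.π n : Equiv.Perm GolayPt) x = x ∧ (C.π m : Equiv.Perm GolayPt) x ≠ x
  · obtain ⟨x, hx, h3, h4⟩ := h2
    exact card_cent_two_le_aux C hO n m hn2 hnO hmO hnf hnm hx h3 h4
  by_cases h3 : ∃ x ∈ O, (C.π m : Equiv.Perm GolayPt) x = x ∧ (C.π n : Equiv.Perm GolayPt) x ≠ x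
  · obtain ⟨x, hx, h3, h4⟩ := h3
    have h5 := card_cent_two_le_aux C hO m n hm2 hmO hnO hmf hnm.symm hx h3 h4
    rwa [inf_assoc, inf_comm (Subgroup.centralizer ({(m : G)} : Set G)), ← inf_assoc] at h5
  by_cases h1 : ∃ x ∈ O, (C.π n : Equiv.Perm GolayPt) x ≠ x ∧ (C.π m : Equiv.Perm GolayPt) x ≠ x ∧
      (C.π m : Equiv.Perm GolayPt) x ≠ (C.π n : Equiv.Perm GolayPt) x
  · obtain ⟨x, hx, h4, h5, h6⟩ := h1
    have h7 := two_mul_card (F := C.toFrame) (O := O) (n := n) (m := m) hx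
      ((FusionM22.mem_iff_of_smul_eq hnO x).2 hx) (Ne.symm h4) rfl
      (by rw [← Equiv.Perm.mul_apply, hn2]; rfl) h5 h6
    have h8 := card_cent_le C hO n hn2 hnO hnf
    omega
  exfalso
  push Not at h1 h2 h3
  apply hnmf
  refine mem_fixOct.2 ⟨M24.mul_mem (C.π n).2 (C.π m).2, fun x hx => ?_⟩
  have h4 : (C.π m : Equiv.Perm GolayPt) x = (C.π n : Equiv.Perm GolayPt) x := by
    by_cases h5 : (C.π n : Equiv.Perm GolayPt) x = x
    · rw [h5, h2 x hx h5]
    by_cases h6 : (C.π m : Equiv.Perm GolayPt) x = x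
    · rw [h6, h3 x hx h6]
    exact h1 x hx h5 h6
  rw [Equiv.Perm.mul_apply, h4, ← Equiv.Perm.mul_apply, hn2]
  rfl

/-- (a) -/
theorem le_fixOct_of_fix [Finite G] (C : J4Type.Compl G) {E' : Subgroup G}
    (hE' : ∀ a ∈ E', a * a = 1) (h8 : 8 ≤ Nat.card (im C.toFrame E'))
    (hD : 32 ≤ Nat.card (E' ⊓ C.E hex0 : Subgroup G)) {u : Equiv.Perm GolayPt}
    (hu : u ∈ im C.toFrame E') (hu1 : u ≠ 1) {p : GolayPt} (hup : u p = p) :
    ∃ O ∈ octads, im C.toFrame E' ≤ fixOct O := by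
  classical
  have hAM : im C.toFrame E' ≤ M24 := im_le C.toFrame E'
  have hAsq : ∀ b ∈ im C.toFrame E', b * b = 1 := im_sq C.toFrame hE'
  have hcomm := comm_of_sq hE'
  have hAcomm := comm_of_sq hAsq
  have hO := fix_octad (hAM hu) (hAsq u hu) hu1 hup
  set O : Finset GolayPt := Finset.univ.filter fun p : GolayPt => u p = p with hOdef
  have hmemO : ∀ x, x ∈ O ↔ u x = x := by
    intro x
    rw [hOdef, Finset.mem_filter]
    simp
  have huO : u ∈ fixOct O := mem_fixOct.2 ⟨hAM hu, fun x hx => (hmemO x).1 hx⟩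
  have hst : ∀ b ∈ im C.toFrame E', b • O = O := by
    intro b hb
    apply smul_eq_of_mapsTo
    intro x hx
    rw [hmemO] at hx ⊢
    rw [← Equiv.Perm.mul_apply, hAcomm u hu b hb, Equiv.Perm.mul_apply, hx]
  refine ⟨O, hO, ?_⟩
  obtain ⟨nu, hnuV, hnu⟩ := (mem_im C.toFrame).1 hu
  have hnu1 : C.π nu ≠ 1 := fun h => hu1 (by rw [← hnu, h]; rfl)
  obtain ⟨q, hq⟩ := FusionComm.exists_out hO
  have hD1 : Nat.card (E' ⊓ C.E hex0 : Subgroup G) ≤
      2 * Nat.card (E' ⊓ C.E hex0 ⊓ WG C.toFrame O : Subgroup G) := by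
    apply FusionOne.card_le_two_mul
    intro a ha b hb haW hbW
    have h1 := (cases_of_comm hO (hnu ▸ huO) hnu1 hq ha.2 (hcomm _ hnuV a ha.1)).resolve_left haW
    have h2 := (cases_of_comm hO (hnu ▸ huO) hnu1 hq hb.2 (hcomm _ hnuV b hb.1)).resolve_left hbW
    have h3 := (WG C.toFrame O).mul_mem ((WG C.toFrame O).inv_mem h1) h2
    have hne : q ≠ (C.π nu : Equiv.Perm GolayPt) q := by
      intro h
      apply hnu1
      exact Subtype.ext (OctadFixTrans.eq_one_of_fix hO (hnu ▸ huO) hq h.symm)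
    have hεE := C.ε_mem {q, (C.π nu : Equiv.Perm GolayPt) q} (even_pair' hne)
    have h4 := (C.E_elem hex0 HexMax.hex0_isHex).2 _ ((C.E hex0).mul_mem ((C.E hex0).inv_mem ha.2) hb.2)
      _ hεE
    have e : (a * C.ε {q, (C.π nu : Equiv.Perm GolayPt) q})⁻¹ *
        (b * C.ε {q, (C.π nu : Equiv.Perm GolayPt) q}) = a⁻¹ * b := by
      rw [mul_inv_rev, mul_assoc, ← mul_assoc a⁻¹, h4, ← mul_assoc, inv_mul_cancel, one_mul]
    rwa [e] at h3
  by_cases h17 : 17 ≤ Nat.card (E' ⊓ C.E hex0 ⊓ WG C.toFrame O : Subgroup G)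
  · -- everything fixes `O` pointwise
    intro b hb
    obtain ⟨n, hn, rfl⟩ := (mem_im C.toFrame).1 hb
    exact fix_of_cent C hO inf_le_right h17 n (fun d hd => hcomm _ hn _ hd.1.1) (hst _ hb)
  · exfalso
    -- `|A ⊓ fixOct O| ≤ 2` is impossible, and `≥ 4` gives `D ≤ W`
    have hβ : Nat.card (im C.toFrame E' ⊓ fixOct O : Subgroup (Equiv.Perm GolayPt)) < 4 := by
      by_contra h4
      push Not at h4
      obtain ⟨a, ha, b, hb, ha1, hb1, hab⟩ := FusionFact.exists_two_of_card h4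
      obtain ⟨na, hna, hna'⟩ := (mem_im C.toFrame).1 ha.1
      obtain ⟨nb, hnb, hnb'⟩ := (mem_im C.toFrame).1 hb.1
      have h5 : E' ⊓ C.E hex0 ≤ E' ⊓ C.E hex0 ⊓ WG C.toFrame O := by
        intro d hd
        refine ⟨hd, ?_⟩
        exact mem_WG_of_comm hO (n := na) (m := nb) (hna' ▸ ha.2)
          (fun h => ha1 (by rw [← hna', h]; rfl)) (hnb' ▸ hb.2)
          (fun h => hb1 (by rw [← hnb', h]; rfl))
          (fun h => hab (by rw [← hna', ← hnb', h])) hd.2 (hcomm _ hna d hd.1) (hcomm _ hnb d hd.1)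
      have := Subgroup.card_le_of_le h5
      omega
    -- two elements
    obtain ⟨g, hg, hgO⟩ : ∃ g ∈ im C.toFrame E', g ∉ fixOct O := by
      by_contra hno
      push Not at hno
      have h5 : im C.toFrame E' ≤ im C.toFrame E' ⊓ fixOct O := fun x hx => ⟨hx, hno x hx⟩
      have := Subgroup.card_le_of_le h5
      omega
    obtain ⟨h, hh, hhO, hghO⟩ : ∃ h ∈ im C.toFrame E', h ∉ fixOct O ∧ g * h ∉ fixOct O := by
      by_contra hno
      push Not at hno
      have h5 := FusionOne.card_le_two_mul (im C.toFrame E')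
        (fixOct O) (fun a ha b hb haO hbO => by
          have h6 := hno a ha haO
          have h7 := hno b hb hbO
          have h8 := (fixOct O).mul_mem ((fixOct O).inv_mem h6) h7
          rwa [mul_inv_rev, mul_assoc, inv_mul_cancel_left] at h8)
      omega
    obtain ⟨n, hn, hn'⟩ := (mem_im C.toFrame).1 hg
    obtain ⟨m, hm, hm'⟩ := (mem_im C.toFrame).1 hh
    subst hn' hm'
    have h5 := card_cent_two_le C hO n m (hAsq _ hg) (hAsq _ hh) (hst _ hg) (hst _ hh) hgO hhO hghO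
      (hAcomm _ hg _ hh)
    have h6 : E' ⊓ C.E hex0 ⊓ WG C.toFrame O ≤ WG C.toFrame O ⊓
        Subgroup.centralizer ({(n : G)} : Set G) ⊓ Subgroup.centralizer ({(m : G)} : Set G) := by
      intro d hd
      exact ⟨⟨hd.2, Subgroup.mem_centralizer_singleton_iff.2 (hcomm _ hn d hd.1.1).symm⟩,
        Subgroup.mem_centralizer_singleton_iff.2 (hcomm _ hm d hd.1.1).symm⟩
    have h7 := Subgroup.card_le_of_le h6
    omega

end Cfsg.Agent.H796.JM
end

-- part: H796/JM/FSixB
section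
/-!
# Part (b) of `F16` : the semiregular case (helper796)

`semireg_false` : an elementary abelian semiregular subgroup of order 8 of `M24` does not centralise a subgroup of
order 32 of `E`.
-/

set_option autoImplicit false

open scoped Pointwise

namespace Cfsg.Agent.H796.JM

open Cfsg Cfsg.Agent.SporadicA.GolayBase Cfsg.Agent.SporadicA.OctadFix
open Cfsg.Agent.J4Type Cfsg.Agent.J4Type.CocodeMask Cfsg.Agent.J4Type.TauM24
open Cfsg.Agent.J4Type.TauMask Cfsg.Agent.J4Type.FrameDefs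
open Cfsg.Agent.H857.Card Cfsg.Agent.H857.Classify Cfsg.Agent.H857.WGrp
open Cfsg.Agent.H857.Orbits Cfsg.Agent.H857.Normal Cfsg.Agent.H857.T10Norm

variable {G : Type*} [Group G]

theorem tet_card : ∀ i, (tet i).card = 4 := by decide +kernel

theorem tet_cover : ∀ p : GolayPt, ∃ i, p ∈ tet i := by decide +kernel

theorem even_of_four {T : Finset GolayPt} (h : T.card = 4) : Even T.card := by rw [h]; decide

/-- the tetrads of a sextet cover the points -/
theorem exists_tetrad (F : Frame G) {d : G} (hd : d ∈ F.E hex0) (h1 : d ≠ 1)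
    (hnd : ∀ p q : GolayPt, p ≠ q → F.ε {p, q} ≠ d) (x : GolayPt) :
    ∃ T : Finset GolayPt, x ∈ T ∧ T.card = 4 ∧ F.ε T = d := by
  obtain ⟨n, hn, hnz⟩ := (mem_orb_z (K := F)).2 ⟨hd, h1, by
    rintro ⟨p, q, hpq, h⟩
    exact hnd p q hpq h.symm⟩
  obtain ⟨i, hi⟩ := tet_cover ((F.π ⟨n, hn⟩ : Equiv.Perm GolayPt)⁻¹ x)
  refine ⟨(F.π ⟨n, hn⟩ : Equiv.Perm GolayPt) • tet i, ?_, ?_, ?_⟩
  · rw [Finset.mem_smul_finset]
    exact ⟨_, hi, (F.π ⟨n, hn⟩ : Equiv.Perm GolayPt).apply_symm_apply x⟩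
  · rw [Finset.card_smul_finset, tet_card]
  · rw [← F.π_smul ⟨n, hn⟩ (tet i) (even_of_four (tet_card i)), F.ε_tet, hnz]

/-- two tetrads of a sextet with a common point are equal -/
theorem tetrad_unique (F : Frame G) {T T' : Finset GolayPt} (hT : T.card = 4) (hT' : T'.card = 4)
    (h : F.ε T = F.ε T') {x : GolayPt} (hx : x ∈ T) (hx' : x ∈ T') : T = T' := by
  apply DuadUniq.ε_inj F (even_of_four hT) (even_of_four hT') _ h
  have h1 := card_symmDiff_add T T'
  have h2 : 0 < (T ∩ T').card := Finset.card_pos.2 ⟨x, Finset.mem_inter.2 ⟨hx, hx'⟩⟩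
  omega

/-- the 4-set of two disjoint pairs -/
theorem ε_four (F : Frame G) {a b c d : GolayPt} (hab : a ≠ b) (hcd : c ≠ d) (hac : a ≠ c)
    (had : a ≠ d) (hbc : b ≠ c) (hbd : b ≠ d) :
    F.ε {a, b, c, d} = F.ε {a, b} * F.ε {c, d} ∧ ({a, b, c, d} : Finset GolayPt).card = 4 := by
  have h1 : symmDiff ({a, b} : Finset GolayPt) {c, d} = {a, b, c, d} := by
    have hdisj : Disjoint ({a, b} : Finset GolayPt) {c, d} := by
      rw [Finset.disjoint_left]
      intro x hx hx'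
      rw [Finset.mem_insert, Finset.mem_singleton] at hx hx'
      rcases hx with rfl | rfl <;> rcases hx' with rfl | rfl
      · exact hac rfl
      · exact had rfl
      · exact hbc rfl
      · exact hbd rfl
    rw [hdisj.symmDiff_eq_sup, Finset.sup_eq_union]
    ext x
    simp only [Finset.mem_union, Finset.mem_insert, Finset.mem_singleton, or_assoc]
  refine ⟨?_, ?_⟩
  · rw [← h1, F.ε_mul _ _ (even_pair' hab) (even_pair' hcd)]
  · rw [Finset.card_eq_succ]
    refine ⟨a, {b, c, d}, ?_, rfl, ?_⟩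
    · simp [hab, hac, had]
    · rw [Finset.card_eq_succ]
      refine ⟨b, {c, d}, ?_, rfl, Finset.card_pair hcd⟩
      simp [hbc, hbd]

/-- four points in different orbits are impossible -/
theorem four_orbits (A : Subgroup (Equiv.Perm GolayPt)) (h8 : 8 ≤ Nat.card A)
    (hfree : ∀ u ∈ A, u ≠ 1 → ∀ p, u p ≠ p) (x : Fin 4 → GolayPt)
    (hx : ∀ i j, i ≠ j → ∀ a ∈ A, a (x i) ≠ x j) : False := by
  classical
  have hinj : Function.Injective (fun k : Fin 4 × A => (k.2 : Equiv.Perm GolayPt) (x k.1)) := by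
    rintro ⟨i, a⟩ ⟨j, b⟩ h
    have h' : (a : Equiv.Perm GolayPt) (x i) = (b : Equiv.Perm GolayPt) (x j) := h
    have h1 : ((b : Equiv.Perm GolayPt)⁻¹ * a) (x i) = x j := by
      rw [Equiv.Perm.mul_apply, h']
      exact (b : Equiv.Perm GolayPt).symm_apply_apply _
    have h2 : (b : Equiv.Perm GolayPt)⁻¹ * a ∈ A := A.mul_mem (A.inv_mem b.2) a.2
    have hij : i = j := by
      by_contra hne
      exact hx i j hne _ h2 h1
    subst hij
    have h3 : (b : Equiv.Perm GolayPt)⁻¹ * a = 1 := by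
      by_contra hne
      exact hfree _ h2 hne _ h1
    have h4 : a = b := Subtype.ext (inv_mul_eq_one.1 h3).symm
    rw [h4]
  have h1 := Nat.card_le_card_of_injective _ hinj
  rw [Nat.card_prod, Nat.card_eq_fintype_card (α := Fin 4), Fintype.card_fin,
    Nat.card_eq_fintype_card (α := GolayPt), HexMax.card24] at h1
  omega

/-- points outside one or two orbits -/
theorem exists_out_two (A : Subgroup (Equiv.Perm GolayPt)) (h8 : Nat.card A ≤ 8) (x y : GolayPt) :
    ∃ z, ∀ a ∈ A, a x ≠ z ∧ a y ≠ z := by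
  classical
  let _ : Fintype A := Fintype.ofFinite A
  let S : Finset GolayPt := (Finset.univ.image fun a : A => (a : Equiv.Perm GolayPt) x) ∪
    (Finset.univ.image fun a : A => (a : Equiv.Perm GolayPt) y)
  have hS : S.card ≤ 16 := by
    have h1 : (Finset.univ.image fun a : A => (a : Equiv.Perm GolayPt) x).card ≤ 8 :=
      Finset.card_image_le.trans (by rw [Finset.card_univ, ← Nat.card_eq_fintype_card]; exact h8)
    have h2 : (Finset.univ.image fun a : A => (a : Equiv.Perm GolayPt) y).card ≤ 8 :=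
      Finset.card_image_le.trans (by rw [Finset.card_univ, ← Nat.card_eq_fintype_card]; exact h8)
    have h3 := Finset.card_union_le (Finset.univ.image fun a : A => (a : Equiv.Perm GolayPt) x)
      (Finset.univ.image fun a : A => (a : Equiv.Perm GolayPt) y)
    show ((Finset.univ.image fun a : A => (a : Equiv.Perm GolayPt) x) ∪
      (Finset.univ.image fun a : A => (a : Equiv.Perm GolayPt) y)).card ≤ 16
    omega
  obtain ⟨z, hz⟩ : ∃ z, z ∉ S := by
    by_contra hno
    push Not at hno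
    have h1 : (Finset.univ : Finset GolayPt) ⊆ S := fun z _ => hno z
    have h2 := Finset.card_le_card h1
    rw [Finset.card_univ, HexMax.card24] at h2
    omega
  refine ⟨z, fun a ha => ⟨fun h => hz ?_, fun h => hz ?_⟩⟩
  · exact Finset.mem_union_left _ (Finset.mem_image.2 ⟨⟨a, ha⟩, Finset.mem_univ _, h⟩)
  · exact Finset.mem_union_right _ (Finset.mem_image.2 ⟨⟨a, ha⟩, Finset.mem_univ _, h⟩)

/-- (b) -/
theorem semireg_false [Finite G] (C : J4Type.Compl G) {E' : Subgroup G}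
    (hE' : ∀ a ∈ E', a * a = 1) (h8 : 8 ≤ Nat.card (im C.toFrame E'))
    (hD : 32 ≤ Nat.card (E' ⊓ C.E hex0 : Subgroup G))
    (hfree : ∀ u ∈ im C.toFrame E', u ≠ 1 → ∀ p, u p ≠ p) : False := by
  classical
  have hAM : im C.toFrame E' ≤ M24 := im_le C.toFrame E'
  have hAsq : ∀ b ∈ im C.toFrame E', b * b = 1 := im_sq C.toFrame hE'
  have hcomm := comm_of_sq hE'
  have hAcomm := comm_of_sq hAsq
  set A := im C.toFrame E' with hAdef
  set D : Subgroup G := E' ⊓ C.E hex0 with hDdef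
  have hA8 := card_semireg A hAsq hfree
  have hsq : ∀ u ∈ A, ∀ p, u (u p) = p := by
    intro u hu p
    rw [← Equiv.Perm.mul_apply, hAsq u hu]; rfl
  have hlift : ∀ u ∈ A, ∃ n : NE C.toFrame, (n : G) ∈ E' ∧ (C.π n : Equiv.Perm GolayPt) = u :=
    fun u hu => (mem_im C.toFrame).1 hu
  -- no duads in `D`
  have b0 : ∀ p q : GolayPt, p ≠ q → C.ε {p, q} ∉ D := by
    intro p q hpq hd
    obtain ⟨a, ha, b, hb, ha1, hb1, hab⟩ := FusionFact.exists_two_of_card (K := A) (by omega)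
    have h1 : ∀ u ∈ A, u ≠ 1 → u p = q := by
      intro u hu hu1
      obtain ⟨n, hn, rfl⟩ := hlift u hu
      rcases duad_comm (F := C.toFrame) hpq (hcomm _ hn _ hd.1) with h | h
      · exact absurd h (hfree _ hu hu1 p)
      · exact h
    have h2 : a * b ≠ 1 := by
      intro h
      apply hab
      rw [eq_inv_of_mul_eq_one_left h]
      exact inv_eq_of_mul_eq_one_left (hAsq b hb)
    apply hfree _ (A.mul_mem ha hb) h2 p
    rw [Equiv.Perm.mul_apply, h1 b hb hb1, ← h1 a ha ha1, hsq a ha]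
  -- products of two cycles of `u`
  have b1 : ∀ u ∈ A, u ≠ 1 → ∀ x y : GolayPt, C.ε {x, u x} * C.ε {y, u y} ∈ D := by
    intro u hu hu1 x y
    obtain ⟨n, hn, hnu⟩ := hlift u hu
    have hxu : ∀ x, x ≠ u x := fun x h => hfree u hu hu1 x h.symm
    set W' : Subgroup G := C.E hex0 ⊓ Subgroup.centralizer ({(n : G)} : Set G) with hW'
    have h64 : Nat.card W' ≤ 64 := by
      apply card_le_of_free (F := C.toFrame) (n := n)
        (Subtype.ext (by rw [Subgroup.coe_mul, hnu]; exact hAsq u hu)) (by rw [hnu]; exact hfree u hu hu1)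
        inf_le_left
      intro d hd
      exact (Subgroup.mem_centralizer_singleton_iff.1 hd.2).symm
    have hDW : D ≤ W' := by
      intro d hd
      exact ⟨hd.2, Subgroup.mem_centralizer_singleton_iff.2 (hcomm _ hn _ hd.1).symm⟩
    have hmem : ∀ x, C.ε {x, u x} ∈ W' := by
      intro x
      refine ⟨C.ε_mem _ (even_pair' (hxu x)), Subgroup.mem_centralizer_singleton_iff.2 ?_⟩
      exact (comm_duad (F := C.toFrame) (hxu x) (by rw [hnu]) (by rw [hnu, hsq u hu])).symm
    by_contra hno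
    have h1 := four_mul_card_le hDW (fun w hw => E_sq hw.1) (hmem x) (hmem y) (b0 _ _ (hxu x))
      (b0 _ _ (hxu y)) hno
    omega
  -- the sextet of a four-group
  have b2 : ∀ u ∈ A, u ≠ 1 → ∀ v ∈ A, ∀ x y : GolayPt,
      C.ε {x, u x} * C.ε {v x, v (u x)} = C.ε {y, u y} * C.ε {v y, v (u y)} := by
    intro u hu hu1 v hv x y
    obtain ⟨m, hm, hmv⟩ := hlift v hv
    have hxu : ∀ x, x ≠ u x := fun x h => hfree u hu hu1 x h.symm
    have hd := b1 u hu hu1 x y
    have h1 := hcomm _ hm _ hd.1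
    have h2 : ∀ x, (m : G) * C.ε {x, u x} * (m : G)⁻¹ = C.ε {v x, v (u x)} := by
      intro x
      rw [C.π_smul m {x, u x} (even_pair' (hxu x)), hmv, Finset.smul_finset_insert,
        Finset.smul_finset_singleton]
      rfl
    have h3 : C.ε {v x, v (u x)} * C.ε {v y, v (u y)} = C.ε {x, u x} * C.ε {y, u y} := by
      rw [← h2 x, ← h2 y]
      calc (m : G) * C.ε {x, u x} * (m : G)⁻¹ * ((m : G) * C.ε {y, u y} * (m : G)⁻¹)
          = (m : G) * (C.ε {x, u x} * C.ε {y, u y}) * (m : G)⁻¹ := by group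
        _ = C.ε {x, u x} * C.ε {y, u y} := by rw [h1, mul_inv_cancel_right]
    have hE : ∀ p q : GolayPt, p ≠ q → C.ε {p, q} ∈ C.E hex0 := fun p q h => C.ε_mem _ (even_pair' h)
    have hvx : ∀ x, v x ≠ v (u x) := fun x h => hxu x (v.injective h)
    have hc : ∀ a ∈ C.E hex0, ∀ b ∈ C.E hex0, a * b = b * a := (C.E_elem hex0 HexMax.hex0_isHex).2
    have e1 : C.ε {v y, v (u y)} * C.ε {v y, v (u y)} = 1 := E_sq (hE _ _ (hvx y))
    have e2 : C.ε {x, u x} * C.ε {x, u x} = 1 := E_sq (hE _ _ (hxu x))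
    calc C.ε {x, u x} * C.ε {v x, v (u x)}
        = C.ε {x, u x} * (C.ε {v x, v (u x)} * C.ε {v y, v (u y)}) * C.ε {v y, v (u y)} := by
          rw [mul_assoc, mul_assoc, e1, mul_one]
      _ = C.ε {x, u x} * (C.ε {x, u x} * C.ε {y, u y}) * C.ε {v y, v (u y)} := by rw [h3]
      _ = C.ε {y, u y} * C.ε {v y, v (u y)} := by rw [← mul_assoc, e2, one_mul]
  -- the three points
  obtain ⟨u, hu, -, -, hu1, -, -⟩ := FusionFact.exists_two_of_card (K := A) (by omega)
  obtain ⟨y, hy⟩ := exists_out_two A hA8 none none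
  obtain ⟨z, hz⟩ := exists_out_two A hA8 none y
  set x : GolayPt := none with hxdef
  have hyx : ∀ a ∈ A, a y ≠ x := by
    intro a ha h
    exact (hy a ha).1 (by rw [← h, hsq a ha])
  have hzx : ∀ a ∈ A, a z ≠ x := by
    intro a ha h
    exact (hz a ha).1 (by rw [← h, hsq a ha])
  have hzy : ∀ a ∈ A, a z ≠ y := by
    intro a ha h
    exact (hz a ha).2 (by rw [← h, hsq a ha])
  have h1A : (1 : Equiv.Perm GolayPt) ∈ A := A.one_mem
  obtain ⟨hT1, hT2⟩ := ε_four C.toFrame (a := x) (b := u x) (c := y) (d := u y)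
    (fun h => hfree u hu hu1 x h.symm) (fun h => hfree u hu hu1 y h.symm)
    (fun h => (hy 1 h1A).1 h) (fun h => (hyx u hu) h.symm) (fun h => (hy u hu).1 h)
    (fun h => (hy 1 h1A).1 (u.injective h))
  set T : Finset GolayPt := {x, u x, y, u y} with hTdef
  have hdD : C.ε T ∈ D := by rw [hT1]; exact b1 u hu hu1 x y
  have hd1 : C.ε T ≠ 1 := by
    intro h
    rw [← ε_empty C.toFrame] at h
    have h1 := DuadUniq.ε_inj C.toFrame (even_of_four hT2) (by simp) (by
      rw [show symmDiff T ∅ = T from symmDiff_bot _, hT2]; norm_num) h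
    rw [h1] at hT2
    simp at hT2
  obtain ⟨T5, hzT, hT5, hTd⟩ := exists_tetrad C.toFrame hdD.2 hd1 (by
    intro p q hpq h
    exact b0 p q hpq (by rw [h]; exact hdD)) z
  -- images of tetrads
  have hsm : ∀ a ∈ A, ∀ S : Finset GolayPt, S.card = 4 → C.ε S = C.ε T → C.ε (a • S) = C.ε T := by
    intro a ha S hS h
    obtain ⟨n, hn, rfl⟩ := hlift a ha
    have h1 := C.π_smul n S (even_of_four hS)
    rw [h, hcomm _ hn _ hdD.1, mul_inv_cancel_right] at h1
    exact h1.symm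
  have hTx : x ∈ T := by rw [hTdef]; simp
  have hTy : y ∈ T := by rw [hTdef]; simp
  have hzT' : ∀ a ∈ A, z ∉ a • T := by
    intro a ha h
    rw [Finset.mem_smul_finset] at h
    obtain ⟨t, ht, hta⟩ := h
    have hta' : a t = z := hta
    rw [hTdef] at ht
    simp only [Finset.mem_insert, Finset.mem_singleton] at ht
    rcases ht with rfl | rfl | rfl | rfl
    · exact (hz a ha).1 hta'
    · exact (hz (a * u) (A.mul_mem ha hu)).1 hta'
    · exact (hz a ha).2 hta'
    · exact (hz (a * u) (A.mul_mem ha hu)).2 hta'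
  have hout : ∀ p ∈ T5, ∀ a ∈ A, ∀ t ∈ T, a t ≠ p := by
    intro p hp a ha t ht h
    have h1 : a • T = T5 := tetrad_unique C.toFrame (by rw [Finset.card_smul_finset, hT2]) hT5
      ((hsm a ha T hT2 rfl).trans hTd.symm) (x := p) (by
        rw [Finset.mem_smul_finset]
        exact ⟨t, ht, h⟩) hp
    exact hzT' a ha (by rw [h1]; exact hzT)
  have hin : ∀ p ∈ T5, ∃ a ∈ A, a z = p := by
    intro p hp
    by_contra hno
    push Not at hno
    have key := four_orbits A h8 hfree ![x, y, z, p]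
    apply key
    have hpx : ∀ a ∈ A, a p ≠ x := fun a ha h => hout p hp a ha x hTx (by rw [← h, hsq a ha])
    have hpy : ∀ a ∈ A, a p ≠ y := fun a ha h => hout p hp a ha y hTy (by rw [← h, hsq a ha])
    have hpz : ∀ a ∈ A, a p ≠ z := fun a ha h => hno a ha (by rw [← h, hsq a ha])
    intro i j hij a ha
    fin_cases i <;> fin_cases j
    · exact absurd rfl hij
    · exact (hy a ha).1
    · exact (hz a ha).1
    · exact hout p hp a ha x hTx
    · exact hyx a ha
    · exact absurd rfl hij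
    · exact (hz a ha).2
    · exact hout p hp a ha y hTy
    · exact hzx a ha
    · exact hzy a ha
    · exact absurd rfl hij
    · exact hno a ha
    · exact hpx a ha
    · exact hpy a ha
    · exact hpz a ha
    · exact absurd rfl hij
  -- two further points of `T5`
  have hT5z : (T5.erase z).card = 3 := by rw [Finset.card_erase_of_mem hzT, hT5]
  obtain ⟨p1, hp1, p2, hp2, hp12⟩ := Finset.one_lt_card.1 (show 1 < (T5.erase z).card by omega)
  rw [Finset.mem_erase] at hp1 hp2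
  obtain ⟨a, ha, hap⟩ := hin p1 hp1.2
  obtain ⟨b, hb, hbp⟩ := hin p2 hp2.2
  have ha1 : a ≠ 1 := by
    rintro rfl
    exact hp1.1 hap.symm
  have hb1 : b ≠ 1 := by
    rintro rfl
    exact hp2.1 hbp.symm
  have hab : a ≠ b := by
    rintro rfl
    exact hp12 (hap.symm.trans hbp)
  have haT : a • T5 = T5 := by
    apply tetrad_unique C.toFrame (by rw [Finset.card_smul_finset, hT5]) hT5
      (by rw [hsm a ha T5 hT5 hTd, hTd]) (x := p1) _ hp1.2
    rw [Finset.mem_smul_finset]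
    exact ⟨z, hzT, hap⟩
  have habz : b (a z) ∈ T5 := by
    have h1 : (a * b) z = (b * a) z := by rw [hAcomm a ha b hb]
    have h2 : b (a z) = a (b z) := by
      rw [← Equiv.Perm.mul_apply, ← h1, Equiv.Perm.mul_apply]
    rw [h2, ← haT, Finset.mem_smul_finset]
    exact ⟨b z, by rw [hbp]; exact hp2.2, rfl⟩
  have hba1 : b * a ≠ 1 := by
    intro h
    apply hab
    rw [eq_inv_of_mul_eq_one_right h]
    exact inv_eq_of_mul_eq_one_left (hAsq b hb)
  -- `B w = {w, a w, b w, b a w}`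
  have hfour : ∀ w : GolayPt, C.ε {w, a w, b w, b (a w)} = C.ε {w, a w} * C.ε {b w, b (a w)} ∧
      ({w, a w, b w, b (a w)} : Finset GolayPt).card = 4 := by
    intro w
    apply ε_four C.toFrame
    · exact fun h => hfree a ha ha1 w h.symm
    · exact fun h => hfree a ha ha1 w (b.injective h).symm
    · exact fun h => hfree b hb hb1 w h.symm
    · exact fun h => hfree (b * a) (A.mul_mem hb ha) hba1 w h.symm
    · intro h
      apply hab
      have h1 : (b⁻¹ * a) w = w := by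
        rw [Equiv.Perm.mul_apply, h]
        exact b.symm_apply_apply w
      have h2 : b⁻¹ * a = 1 := by
        by_contra hne
        exact hfree _ (A.mul_mem (A.inv_mem hb) ha) hne w h1
      exact (inv_mul_eq_one.1 h2).symm
    · exact fun h => hfree b hb hb1 (a w) h.symm
  have hT5eq : T5 = {z, a z, b z, b (a z)} := by
    symm
    apply Finset.eq_of_subset_of_card_le
    · intro t ht
      simp only [Finset.mem_insert, Finset.mem_singleton] at ht
      rcases ht with rfl | rfl | rfl | rfl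
      · exact hzT
      · rw [hap]; exact hp1.2
      · rw [hbp]; exact hp2.2
      · exact habz
    · rw [hT5, (hfour z).2]
  have hfin : C.ε T = C.ε {x, a x, b x, b (a x)} := by
    rw [← hTd, hT5eq, (hfour z).1, (hfour x).1]
    exact b2 a ha ha1 b hb z x
  have hTe : T = {x, a x, b x, b (a x)} :=
    tetrad_unique C.toFrame hT2 (hfour x).2 hfin (x := x) hTx (by simp)
  rw [hTe] at hTy
  simp only [Finset.mem_insert, Finset.mem_singleton] at hTy
  rcases hTy with h | h | h | h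
  · exact (hy 1 h1A).1 h.symm
  · exact (hy a ha).1 h.symm
  · exact (hy b hb).1 h.symm
  · exact (hy (b * a) (A.mul_mem hb ha)).1 h.symm

end Cfsg.Agent.H796.JM
end

-- part: H796/JM/FSixteen
section
/-!
# `F16` : elementary abelian groups with large image (helper796)
-/

set_option autoImplicit false

open scoped Pointwise

namespace Cfsg.Agent.H796.JM

open Cfsg Cfsg.Agent.SporadicA.GolayBase Cfsg.Agent.SporadicA.OctadFix
open Cfsg.Agent.J4Type
open Cfsg.Agent.H857.Card Cfsg.Agent.H857.Classify Cfsg.Agent.H857.WGrp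
open Cfsg.Agent.H857.Orbits

variable {G : Type*} [Group G]

theorem exists_X_of_large [Finite G] [IsSimpleGroup G] (C : J4Type.Compl G) {E' : Subgroup G}
    (hE' : ∀ a ∈ E', a * a = 1) (hN' : E' ≤ Subgroup.normalizer (C.E hex0 : Set G))
    (hD : 32 ≤ Nat.card (E' ⊓ C.E hex0 : Subgroup G))
    (h8 : 8 * Nat.card (E' ⊓ C.E hex0 : Subgroup G) ≤ Nat.card E') :
    ∃ X : Subgroup G, IsX X ∧ Subgroup.centralizer (E' : Set G) ≤ X := by
  have h1 := card_eq_mul C.toFrame hN'
  have hA8 : 8 ≤ Nat.card (im C.toFrame E') := by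
    rw [h1, mul_comm] at h8
    exact Nat.le_of_mul_le_mul_left h8 (by omega)
  by_cases hfix : ∃ u ∈ im C.toFrame E', u ≠ 1 ∧ ∃ p, u p = p
  · obtain ⟨u, hu, hu1, p, hup⟩ := hfix
    obtain ⟨O, hO, hA⟩ := le_fixOct_of_fix C hE' hA8 hD hu hu1 hup
    obtain ⟨X, hX, -, hc⟩ := cent_le_X C hE' hN' hO hA (by omega) (by omega)
    exact ⟨X, hX, hc⟩
  · push Not at hfix
    exact (semireg_false C hE' hA8 hD hfix).elim

section

open Cfsg.Agent.H860.JM

/-- the group `Spor.J4` -/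
local notation "𝒢" => Cfsg.Spor.J4

theorem f16 : F16 geo := by
  have := simple_J
  have := finite_J
  obtain ⟨C, L⟩ := exists_link
  intro P E hP hE hN hD h8
  have hcs : ∀ (g : 𝒢) (V : Subgroup 𝒢), Nat.card (MulAut.conj g • V : Subgroup 𝒢) = Nat.card V :=
    fun g V => Cfsg.Agent.H856.TwoEleven.card_smul V g
  obtain ⟨g, rfl⟩ := (L.Pt P).1 hP
  obtain ⟨E, rfl⟩ := exists_smul_eq g E
  rw [← Subgroup.smul_inf, hcs] at hD h8
  rw [hcs] at h8
  have hE2 : ∀ a ∈ E, a * a = 1 := by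
    intro a ha
    have h1 := hE.sq (g * a * g⁻¹) (conj_mem_smul.2 ha)
    calc a * a = g⁻¹ * (g * a * g⁻¹ * (g * a * g⁻¹)) * g := by group
      _ = 1 := by rw [h1]; group
  have hN2 : E ≤ Subgroup.normalizer (C.E hex0 : Set 𝒢) := by
    intro a ha
    have h1 := mem_normalizer_smul.1 (hN (conj_mem_smul.2 ha))
    rwa [show g⁻¹ * (g * a * g⁻¹) * g = a by group] at h1
  obtain ⟨X, hX, hc⟩ := exists_X_of_large C hE2 hN2 hD h8
  refine ⟨MulAut.conj g • X, xc_iff.2 (hX.smul g), ?_⟩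
  intro c hc'
  rw [mem_smul_iff]
  apply hc
  rw [Subgroup.mem_centralizer_iff] at hc' ⊢
  intro a ha
  have h1 := hc' (g * a * g⁻¹) (conj_mem_smul.2 ha)
  calc a * (g⁻¹ * c * g) = g⁻¹ * (g * a * g⁻¹ * c) * g := by group
    _ = g⁻¹ * (c * (g * a * g⁻¹)) * g := by rw [h1]
    _ = g⁻¹ * c * g * a := by group

end

end Cfsg.Agent.H796.JM
end

-- part: H854/JM/Local
section
/-!
# S5580: Parts I and II plugged into the final assembly (helper854)

* `facts` : all the facts on the 2-local geometry of `Spor.J4`;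
* `thirteen'` : the 13 classes of maximal subgroups of `Spor.J4` from the rows of Part III.
-/

set_option autoImplicit false

open Cfsg Subgroup

namespace Cfsg.Agent.H854.JM

open Cfsg.Agent.OrdDiv Cfsg.Agent.H866 Cfsg.Agent.H866.J4Ord Cfsg.Agent.H866.J4Min
open Cfsg.Agent.H860.JM (NL Excl OneCl cj Good geo Facts)

/-- the group `Spor.J4` -/
local notation "𝒢" => Cfsg.Spor.J4

/-- **the facts on the 2-local geometry of `Spor.J4`** -/
theorem facts : Facts geo where
  f0 := H860.JM.f0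
  f1 := H860.JM.f1
  f2 := H860.JM.f2
  f3 := H860.JM.f3
  f4 := H860.JM.f4
  f5 := H68.JM.f5
  f6 := H825.JM.f6 H68.JM.f5
  f7 := H41.JM.f7
  f9 := H41.JM.f9
  f11 := H795.JM.f11 H41.JM.f9
  f12 := H752.JM.f12
  f13 := Cfsg.Agent.H541.JM.F13.f13 H860.JM.f4
  f14 := H796.JM.f14
  f16 := H796.JM.f16
  f17 := H68.JM.f17
  f18 := H705.JM.f18 H860.JM.f1 H860.JM.f3 H860.JM.f4 H68.JM.f5 (H825.JM.f6 H68.JM.f5) H41.JM.f7 H41.JM.f9
    (Cfsg.Agent.H541.JM.F13.f13 H860.JM.f4)

/-- **Part I** -/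
theorem good_J (M : Subgroup 𝒢) (hM : IsCoatom M) (Q₀ : Subgroup 𝒢) (h0 : Q₀ ≠ ⊥) (h2 : IsPGroup 2 Q₀) (hle : Q₀ ≤ M)
    (hn : M ≤ normalizer (Q₀ : Set 𝒢)) : Good geo M := by
  have := simple_J
  exact H860.JM.good noncomm_J geo facts M hM Q₀ h0 h2 hle hn

/-- **the 13 classes, from the rows of Part III** -/
theorem thirteen' (R : Rows) (T : OrderTable.{0}) (hS : Known.{0}) (H : St81) : Thirteen 𝒢 := by
  have := simple_J
  obtain ⟨f8, h1, h2, h3, h4⟩ := H546.JM.reps8 T hS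
  refine thirteen R T hS H f8 h1 h2 h3 good_J ?_
  intro M hM p hp hp2 Q₀ hQ hQp hQM hn
  have := Fact.mk hp
  have : Fact (Nat.Prime 11) := ⟨by norm_num⟩
  have : Fact (Nat.Prime 29) := ⟨by norm_num⟩
  have : Fact (Nat.Prime 37) := ⟨by norm_num⟩
  have : Fact (Nat.Prime 43) := ⟨by norm_num⟩
  rcases Cfsg.Agent.H820.J4L.odd_local noncomm_J janko (J4Facts.facts T hS noncomm_J janko) (MulEquiv.refl _) hp2 hM hQ
    hQM hn hQp with ⟨Q, k1, k2, k4, k5⟩ | ⟨U, rfl⟩ | ⟨U, rfl⟩ | ⟨U, rfl⟩ | ⟨U, rfl⟩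
  · exact h3 M hM (good_J M hM Q k1 k2 k4 k5)
  · exact h4 11 (by simp) U
  · exact h4 29 (by simp) U
  · exact h4 37 (by simp) U
  · exact h4 43 (by simp) U

end Cfsg.Agent.H854.JM
end
end
end
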